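/-
Chief factors below normal p-subgroups and iterated commutators with a cyclic group.

Main results (namespace `Cfsg.Agent.KInfinity`):
* `commutator_zpowers_le`, `iterCommutator_mono`, `iterCommutator_sup_le`, `iterCommutator_normal_le`;
* `exists_chief_below`, `commutator_le_of_chief` (normal p-subgroups act trivially on chief p-factors);
* `stab` (the normal subgroup acting trivially on all chief factors below `N`), `commute_of_mem_stab`.
-/
import Cfsg.Agent.Lib.Cores.Basic
import Cfsg.Agent.Lib.CharP.Basic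

set_option autoImplicit false
open Cfsg
open scoped commutatorElement

namespace Cfsg.Agent.KInfinity

variable {G : Type*} [Group G] {p : ℕ}

theorem commutator_zpowers_le {U V : Subgroup G} [hV : V.Normal] {g : G}
    (h : ∀ u ∈ U, ⁅u, g⁆ ∈ V) : ⁅U, Subgroup.zpowers g⁆ ≤ V := by
  refine Subgroup.commutator_le.2 fun u hu x hx => ?_
  obtain ⟨k, rfl⟩ := hx
  rw [← QuotientGroup.eq_one_iff, ← QuotientGroup.mk'_apply, map_commutatorElement, map_zpow,
    commutatorElement_eq_one_iff_commute]
  refine Commute.zpow_right ?_ k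
  rw [← commutatorElement_eq_one_iff_commute, ← map_commutatorElement]
  exact (QuotientGroup.eq_one_iff _).2 (h u hu)

theorem commutator_sup_le {A B C X : Subgroup G} [X.Normal] (hA : ⁅A, C⁆ ≤ X) (hB : ⁅B, C⁆ ≤ X) :
    ⁅A ⊔ B, C⁆ ≤ X := by
  have key : ∀ D : Subgroup G, ⁅D, C⁆ ≤ X ↔ D ≤ (Subgroup.centralizer
      ((C.map (QuotientGroup.mk' X) : Subgroup (G ⧸ X)) : Set (G ⧸ X))).comap (QuotientGroup.mk' X) := by
    intro D
    rw [← Subgroup.map_le_iff_le_comap, ← Subgroup.commutator_eq_bot_iff_le_centralizer,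
      ← Subgroup.map_commutator, Subgroup.map_eq_bot_iff, QuotientGroup.ker_mk']
  rw [key] at hA hB ⊢
  exact sup_le hA hB

theorem iterCommutator_mono {U U' H : Subgroup G} (h : U ≤ U') :
    ∀ n, iterCommutator U H n ≤ iterCommutator U' H n := by
  intro n
  induction n with
  | zero => exact h
  | succ n ih => exact Subgroup.commutator_mono ih le_rfl

theorem iterCommutator_normal_le {V H : Subgroup G} [V.Normal] : ∀ n, iterCommutator V H n ≤ V := by
  intro n
  induction n with
  | zero => exact le_rfl
  | succ n ih =>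
    exact (Subgroup.commutator_mono ih le_top).trans (Subgroup.commutator_le_left V ⊤)

theorem iterCommutator_le_of_le {U V H : Subgroup G} [V.Normal] {n m : ℕ} (hnm : n ≤ m)
    (h : iterCommutator U H n ≤ V) : iterCommutator U H m ≤ V := by
  obtain ⟨k, rfl⟩ := Nat.exists_eq_add_of_le hnm
  induction k with
  | zero => exact h
  | succ k ih =>
    exact (Subgroup.commutator_mono (ih (Nat.le_add_right _ _)) le_top).trans
      (Subgroup.commutator_le_left V ⊤)

theorem iterCommutator_sup_le {U V W H : Subgroup G} [V.Normal] {n : ℕ}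
    (hU : U ≤ W ⊔ V) (h : iterCommutator W H n ≤ V) : iterCommutator U H n ≤ V := by
  suffices ∀ m, iterCommutator U H m ≤ iterCommutator W H m ⊔ V from
    (this n).trans (sup_le h le_rfl)
  intro m
  induction m with
  | zero => exact hU
  | succ m ih =>
    refine (Subgroup.commutator_mono ih le_rfl).trans (Subgroup.commutator_le.2 fun x hx y hy => ?_)
    have hx' : x ∈ ((iterCommutator W H m ⊔ V : Subgroup G) : Set G) := hx
    rw [Subgroup.mul_normal] at hx'
    obtain ⟨w, hw, v, hv, rfl⟩ := hx'
    rw [commutatorElement_mul_left_eq_conj_mul]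
    have h1 : ⁅v, y⁆ ∈ V := by
      have := Subgroup.Normal.conj_mem inferInstance _ (inv_mem hv) y
      simpa [commutatorElement_def, mul_assoc] using mul_mem hv this
    exact mul_mem (Subgroup.mem_sup_right (Subgroup.Normal.conj_mem inferInstance _ h1 w))
      (Subgroup.mem_sup_left (Subgroup.commutator_mem_commutator hw hy))

theorem exists_maximal_normal_below [Finite G] {N M : Subgroup G} [hM : M.Normal] (hMN : M < N) :
    ∃ N₀ : Subgroup G, M ≤ N₀ ∧ N₀.Normal ∧ N₀ < N ∧
      ∀ X : Subgroup G, X.Normal → N₀ ≤ X → X ≤ N → X = N₀ ∨ X = N := by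
  obtain ⟨N₀, hle, hmax⟩ := Finite.exists_le_maximal (α := Subgroup G)
    (p := fun X => X.Normal ∧ X < N) (a := M) ⟨hM, hMN⟩
  refine ⟨N₀, hle, hmax.prop.1, hmax.prop.2, fun X hX h1 h2 => ?_⟩
  by_cases hXN : X = N
  · exact Or.inr hXN
  · exact Or.inl (le_antisymm (hmax.2 ⟨hX, lt_of_le_of_ne h2 hXN⟩ h1) h1)

theorem exists_chief_below [Finite G] {N : Subgroup G} [hN : N.Normal] (h : N ≠ ⊥) :
    ∃ N₀ : Subgroup G, IsChiefFactor N N₀ := by
  obtain ⟨N₀, -, h1, h2, h3⟩ := exists_maximal_normal_below (M := ⊥) (bot_lt_iff_ne_bot.2 h)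
  exact ⟨N₀, h2, hN, h1, h3⟩

theorem lcs_le_normal (X : Subgroup G) [X.Normal] :
    ∀ n, X.lowerCentralSeries n ≤ X ∧ (X.lowerCentralSeries n).Normal := by
  intro n
  induction n with
  | zero => exact ⟨le_rfl, ‹_›⟩
  | succ n ih =>
    haveI := ih.2
    exact ⟨(Subgroup.commutator_mono ih.1 le_rfl).trans (Subgroup.commutator_le_left X X),
      Subgroup.commutator_normal _ _⟩

/-- A normal `p`-subgroup acts trivially on every chief factor that is a `p`-group. -/
theorem commutator_le_of_chief [Finite G] [Fact p.Prime] {U V P : Subgroup G} (h : IsChiefFactor U V)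
    (hUp : IsPGroup p U) [P.Normal] (hP : IsPGroup p P) : ⁅U, P⁆ ≤ V := by
  obtain ⟨hlt, hUn, hVn, hmax⟩ := h
  haveI := hUn
  haveI := hVn
  set R := U ⊔ P
  have hR : IsPGroup p R := hUp.to_sup_of_normal_right hP
  by_contra hcon
  have heq : ⁅U, P⁆ ⊔ V = U := by
    rcases hmax (⁅U, P⁆ ⊔ V) inferInstance le_sup_right
      (sup_le (Subgroup.commutator_le_left U P) hlt.le) with h1 | h1
    · exact absurd (h1 ▸ le_sup_left) hcon
    · exact h1
  have key : ∀ n, U ≤ R.lowerCentralSeries n ⊔ V := by
    intro n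
    induction n with
    | zero => exact le_sup_left.trans le_sup_left
    | succ n ih =>
      haveI := (lcs_le_normal R n).2
      haveI := (lcs_le_normal R (n + 1)).2
      calc U = ⁅U, P⁆ ⊔ V := heq.symm
        _ ≤ R.lowerCentralSeries (n + 1) ⊔ V := by
          refine sup_le ((Subgroup.commutator_mono ih (le_sup_right : P ≤ R)).trans ?_) le_sup_right
          refine commutator_sup_le ?_ ?_
          · exact le_sup_left
          · exact (Subgroup.commutator_le_left V R).trans le_sup_right
  obtain ⟨k, hk⟩ : ∃ k, R.lowerCentralSeries k = ⊥ := by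
    haveI : Group.IsNilpotent R := hR.isNilpotent
    obtain ⟨k, hk⟩ := Subgroup.nilpotent_iff_lowerCentralSeries.1 (inferInstance : Group.IsNilpotent R)
    refine ⟨k, ?_⟩
    have : ∀ n, R.lowerCentralSeries n = ((⊤ : Subgroup R).lowerCentralSeries n).map R.subtype := by
      intro n
      induction n with
      | zero =>
        rw [Subgroup.lowerCentralSeries_zero, Subgroup.lowerCentralSeries_zero, ← MonoidHom.range_eq_map,
          Subgroup.range_subtype]
      | succ n ih =>
        rw [Subgroup.lowerCentralSeries_succ, Subgroup.lowerCentralSeries_succ, Subgroup.map_commutator,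
          ← ih, ← MonoidHom.range_eq_map, Subgroup.range_subtype]
    rw [this, hk, Subgroup.map_bot]
  have := key k
  rw [hk, bot_sup_eq] at this
  exact hlt.not_ge this

/-- The elements centralizing the image of `U` modulo the normal subgroup `V`. -/
def centMod (U V : Subgroup G) [V.Normal] : Subgroup G :=
  (Subgroup.centralizer ((U.map (QuotientGroup.mk' V) : Subgroup (G ⧸ V)) : Set (G ⧸ V))).comap
    (QuotientGroup.mk' V)

theorem mem_centMod {U V : Subgroup G} [V.Normal] {g : G} :
    g ∈ centMod U V ↔ ∀ u ∈ U, ⁅u, g⁆ ∈ V := by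
  rw [centMod, Subgroup.mem_comap, Subgroup.mem_centralizer_iff]
  constructor
  · intro hh u hu
    rw [← QuotientGroup.eq_one_iff, ← QuotientGroup.mk'_apply, map_commutatorElement,
      commutatorElement_eq_one_iff_mul_comm]
    exact hh _ ⟨u, hu, rfl⟩
  · rintro hh _ ⟨u, hu, rfl⟩
    rw [← commutatorElement_eq_one_iff_mul_comm, ← map_commutatorElement]
    exact (QuotientGroup.eq_one_iff _).2 (hh u hu)

theorem centMod_normal (U V : Subgroup G) [U.Normal] [V.Normal] : (centMod U V).Normal := by
  have : (U.map (QuotientGroup.mk' V)).Normal :=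
    Subgroup.Normal.map inferInstance _ (QuotientGroup.mk'_surjective V)
  exact Subgroup.Normal.comap inferInstance _

/-- The elements acting trivially on every chief factor below `N`. -/
def stab (N : Subgroup G) : Subgroup G :=
  ⨅ (U : Subgroup G) (V : Subgroup G) (h : IsChiefFactor U V) (_ : U ≤ N), @centMod G _ U V h.2.2.1

theorem mem_stab {N : Subgroup G} {g : G} :
    g ∈ stab N ↔ ∀ U V : Subgroup G, IsChiefFactor U V → U ≤ N → ∀ u ∈ U, ⁅u, g⁆ ∈ V := by
  simp only [stab, Subgroup.mem_iInf]
  refine forall_congr' fun U => forall_congr' fun V => forall_congr' fun h => forall_congr' fun _ => ?_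
  have := h.2.2.1
  exact mem_centMod

theorem stab_normal (N : Subgroup G) : (stab N).Normal :=
  Subgroup.normal_iInf_normal fun U => Subgroup.normal_iInf_normal fun V =>
    Subgroup.normal_iInf_normal fun h => Subgroup.normal_iInf_normal fun _ => by
      have := h.2.1
      have := h.2.2.1
      exact centMod_normal U V

/-- A `p'`-element acting trivially on every chief factor below the normal `p`-subgroup `N`
centralizes `N`. -/
theorem commute_of_mem_stab [Finite G] {N₁ : Subgroup G} [Fact p.Prime] (hNp : IsPGroup p N₁) {m : G}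
    (hm : (orderOf m).Coprime p) :
    ∀ N : Subgroup G, N.Normal → N ≤ N₁ → m ∈ stab N → ∀ x ∈ N, Commute x m := by
  intro N
  induction N using WellFoundedLT.induction with
  | _ N ih =>
    intro hN hle hmem x hx
    haveI := hN
    by_cases hbot : N = ⊥
    · rw [hbot, Subgroup.mem_bot] at hx
      rw [hx]; exact Commute.one_left m
    obtain ⟨N₀, hN₀⟩ := exists_chief_below hbot
    have h1 : ⁅x, m⁆ ∈ N₀ := mem_stab.1 hmem N N₀ hN₀ le_rfl x hx
    have h2 : m ∈ stab N₀ := mem_stab.2 fun U V hUV hU => mem_stab.1 hmem U V hUV (hU.trans hN₀.1.le)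
    have h3 : Commute ⁅x, m⁆ m := ih N₀ hN₀.1 hN₀.2.2.1 (hN₀.1.le.trans hle) h2 _ h1
    obtain ⟨k, hk⟩ := hNp.to_le (hN₀.1.le.trans hle) ⟨_, h1⟩
    refine CharP.eq_one_of_commute hm ⟨k, ?_⟩ ?_
    · have := congrArg Subtype.val hk
      simpa [commutatorElement_def] using this
    · simpa [commutatorElement_def] using h3

end Cfsg.Agent.KInfinity
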