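/-
Elementary theory of the K-sequence of a finite p-group (Def_ConjugacyFunctors).

Main results: `kLowerStarFamily_antitone`, `kUpperStarFamily_antitone`, `kSeqOdd_antitone`, `kSeqEven_monotone`,
`exists_stable`, `abelian_normal_mem`, `centralizer_le_of_maximal`, `centralizer_kInfLower_le`,
`centralizer_kInfUpper_le`, `map_kInf_eq` (invariance under passing to a subgroup containing the sequence).
-/
import Cfsg.Agent.EqLemmas

set_option autoImplicit false
open Cfsg
open scoped commutatorElement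

namespace Cfsg.Agent.KInfinity

variable {P : Type*} [Group P]

theorem kLowerStarFamily_antitone {Q R : Subgroup P} (h : Q ≤ R) :
    kLowerStarFamily R ⊆ kLowerStarFamily Q :=
  fun _ ⟨h2, hn, hA⟩ => ⟨h2, h.trans hn, fun A hA2 hAQ => hA A hA2 (hAQ.trans h)⟩

theorem kUpperStarFamily_antitone {Q R : Subgroup P} (h : Q ≤ R) :
    kUpperStarFamily R ⊆ kUpperStarFamily Q :=
  fun _ ⟨h2, hc⟩ => ⟨h2, (Subgroup.commutator_mono le_rfl h).trans hc⟩

theorem kSeqOdd_zero : kSeqOdd P 0 = ⊤ := rfl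

theorem kSeqOdd_succ (n : ℕ) :
    kSeqOdd P (n + 1) = sSup (kUpperStarFamily (kSeqEven P n)) := rfl

theorem kSeqOdd_succ_le (n : ℕ) : kSeqOdd P (n + 1) ≤ kSeqOdd P n := by
  induction n with
  | zero => exact le_top
  | succ n ih =>
    exact sSup_le_sSup (kUpperStarFamily_antitone (sSup_le_sSup (kLowerStarFamily_antitone ih)))

theorem kSeqOdd_antitone : Antitone (kSeqOdd P) :=
  antitone_nat_of_succ_le kSeqOdd_succ_le

theorem kSeqEven_monotone : Monotone (kSeqEven P) :=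
  fun _ _ h => sSup_le_sSup (kLowerStarFamily_antitone (kSeqOdd_antitone h))

theorem exists_stable [Finite P] :
    ∃ n, ∀ m, n ≤ m → kSeqEven P m = kInfLower P ∧ kSeqOdd P m = kInfUpper P := by
  obtain ⟨n, hn⟩ : ∃ n, ∀ m, Nat.card (kSeqOdd P n) ≤ Nat.card (kSeqOdd P m) :=
    ⟨Function.argmin (fun m => Nat.card (kSeqOdd P m)),
      fun m => Function.argmin_le (fun m => Nat.card (kSeqOdd P m)) m⟩
  have hstab : ∀ m, n ≤ m → kSeqOdd P m = kSeqOdd P n := fun m hm =>
    Subgroup.eq_of_le_of_card_ge (kSeqOdd_antitone hm) (hn m)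
  refine ⟨n, fun m hm => ⟨?_, ?_⟩⟩
  · refine le_antisymm (le_iSup (kSeqEven P) m) (iSup_le fun k => ?_)
    calc kSeqEven P k ≤ kSeqEven P (max k m) := kSeqEven_monotone (le_max_left _ _)
      _ = kSeqEven P m := by
        simp only [kSeqEven]
        rw [hstab _ (hm.trans (le_max_right _ _)), hstab _ hm]
  · refine le_antisymm (le_iInf fun k => ?_) (iInf_le (kSeqOdd P) m)
    calc kSeqOdd P m = kSeqOdd P (max k m) := by
          rw [hstab _ (hm.trans (le_max_right _ _)), hstab _ hm]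
      _ ≤ kSeqOdd P k := kSeqOdd_antitone (le_max_left _ _)

theorem abelian_normal_mem (A : Subgroup P) [A.Normal] (hA : IsMulCommutative ↥A) (Q : Subgroup P) :
    A ∈ classTwoSubgroups P ∧ A ∈ kLowerStarFamily Q ∧ A ∈ kUpperStarFamily Q := by
  have hc : A ≤ Subgroup.centralizer (A : Set P) := by
    intro a ha
    rw [Subgroup.mem_centralizer_iff]
    intro b hb
    exact congrArg Subtype.val (hA.is_comm.comm ⟨b, hb⟩ ⟨a, ha⟩)
  have hcl : ∀ B : Subgroup P, ⁅A, B⁆ ≤ A := fun B =>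
    (Subgroup.commutator_mono le_rfl le_top).trans (Subgroup.commutator_le_left A ⊤)
  have h2 : A ∈ classTwoSubgroups P := ((hcl A).trans hc : _)
  have hz : A ⊓ Subgroup.centralizer (A : Set P) = A := inf_eq_left.2 hc
  refine ⟨h2, ⟨h2, ?_, ?_⟩, ⟨h2, ?_⟩⟩
  · exact Subgroup.le_normalizer_of_normal
  · intro B _ _ _ _ _
    rw [hz]
    exact hcl B
  · rw [hz]
    exact hcl Q

theorem bot_mem_classTwo : (⊥ : Subgroup P) ∈ classTwoSubgroups P := by
  show ⁅(⊥ : Subgroup P), (⊥ : Subgroup P)⁆ ≤ _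
  simp

theorem bot_mem (Q : Subgroup P) :
    (⊥ : Subgroup P) ∈ kLowerStarFamily Q ∧ (⊥ : Subgroup P) ∈ kUpperStarFamily Q := by
  have h := abelian_normal_mem (⊥ : Subgroup P) inferInstance Q
  exact ⟨h.2.1, h.2.2⟩

/-- In a nilpotent group a centralizer not inside `B` has an element outside `B` which is central
modulo `B` with respect to the normalizer. -/
theorem exists_extension [Group.IsNilpotent P] (B : Subgroup P)
    (h : ¬ Subgroup.centralizer (B : Set P) ≤ B) :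
    ∃ x, x ∉ B ∧ x ∈ Subgroup.centralizer (B : Set P) ∧
      ∀ y ∈ Subgroup.zpowers x, ∀ n ∈ Subgroup.normalizer (B : Set P),
        ⁅y, n⁆ ∈ B ⊓ Subgroup.centralizer (B : Set P) := by
  set C := Subgroup.centralizer (B : Set P) with hC
  set N := Subgroup.normalizer (B : Set P) with hN
  have hCN : ∀ c ∈ C, ∀ n ∈ N, ⁅c, n⁆ ∈ C := by
    intro c hc n hn
    have h1 : n * c⁻¹ * n⁻¹ ∈ C := by
      rw [hC, Subgroup.mem_centralizer_iff]
      intro b hb
      have hb' : n⁻¹ * b * n ∈ B := (Subgroup.mem_normalizer_iff''.1 hn b).1 hb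
      have e := Subgroup.mem_centralizer_iff.1 (inv_mem hc) _ hb'
      calc b * (n * c⁻¹ * n⁻¹) = n * (n⁻¹ * b * n * c⁻¹) * n⁻¹ := by group
        _ = n * (c⁻¹ * (n⁻¹ * b * n)) * n⁻¹ := by rw [e]
        _ = n * c⁻¹ * n⁻¹ * b := by group
    have := mul_mem hc h1
    simpa [commutatorElement_def, mul_assoc] using this
  have key : ∀ i, iterCommutator C N i ≤ C ∧
      iterCommutator C N i ≤ (⊤ : Subgroup P).lowerCentralSeries i := by
    intro i
    induction i with
    | zero => exact ⟨le_rfl, le_top⟩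
    | succ i ih =>
      refine ⟨?_, ?_⟩
      · show ⁅iterCommutator C N i, N⁆ ≤ C
        rw [Subgroup.commutator_le]
        exact fun c hc n hn => hCN c (ih.1 hc) n hn
      · show ⁅iterCommutator C N i, N⁆ ≤ _
        rw [Subgroup.lowerCentralSeries_succ]
        exact Subgroup.commutator_mono ih.2 le_top
  have hex : ∃ i, iterCommutator C N i ≤ B := by
    obtain ⟨k, hk⟩ := Subgroup.nilpotent_iff_lowerCentralSeries.1 (inferInstance : Group.IsNilpotent P)
    exact ⟨k, ((key k).2.trans (le_of_eq hk)).trans bot_le⟩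
  classical
  have h0 : Nat.find hex ≠ 0 := by
    intro h0
    have := Nat.find_spec hex
    rw [h0] at this
    exact h this
  obtain ⟨i, hi⟩ := Nat.exists_eq_succ_of_ne_zero h0
  have hnot : ¬ iterCommutator C N i ≤ B := Nat.find_min hex (by omega)
  obtain ⟨x, hxi, hxB⟩ := SetLike.not_le_iff_exists.1 hnot
  refine ⟨x, hxB, (key i).1 hxi, fun y hy n hn => ?_⟩
  have hyi : y ∈ iterCommutator C N i := (Subgroup.zpowers_le.2 hxi) hy
  have hmem : ⁅y, n⁆ ∈ iterCommutator C N (i + 1) := Subgroup.commutator_mem_commutator hyi hn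
  refine ⟨?_, (key (i + 1)).1 hmem⟩
  have := Nat.find_spec hex
  rw [hi] at this
  exact this hmem

theorem centralizer_le_of_maximal [Group.IsNilpotent P] (B : Subgroup P) (𝒦 : Set (Subgroup P))
    (h𝒦 : 𝒦 = classTwoSubgroups P ∨ (∃ Q, 𝒦 = kLowerStarFamily Q) ∨ ∃ Q, 𝒦 = kUpperStarFamily Q)
    (hB : B ∈ 𝒦) (hmax : ∀ C ∈ 𝒦, B ≤ C → C = B) :
    Subgroup.centralizer (B : Set P) ≤ B := by
  by_contra hcon
  obtain ⟨x, hxB, hxC, hx⟩ := exists_extension B hcon
  set Z := B ⊓ Subgroup.centralizer (B : Set P) with hZdef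
  set B' := B ⊔ Subgroup.zpowers x with hB'def
  set Z' := B' ⊓ Subgroup.centralizer (B' : Set P) with hZ'def
  have hyC : ∀ y ∈ Subgroup.zpowers x, y ∈ Subgroup.centralizer (B : Set P) :=
    fun y hy => (Subgroup.zpowers_le.2 hxC) hy
  have hcomm : ∀ y ∈ Subgroup.zpowers x, ∀ b ∈ B, b * y = y * b := fun y hy b hb =>
    Subgroup.mem_centralizer_iff.1 (hyC y hy) b hb
  have hxN : Subgroup.zpowers x ≤ Subgroup.normalizer (B : Set P) := by
    refine Subgroup.zpowers_le.2 ?_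
    exact Subgroup.centralizer_le_normalizer _ hxC
  have hmem : ∀ g ∈ B', ∃ b ∈ B, ∃ y ∈ Subgroup.zpowers x, g = b * y := by
    intro g hg
    have hg' : g ∈ ((B ⊔ Subgroup.zpowers x : Subgroup P) : Set P) := hg
    rw [Subgroup.coe_mul_of_right_le_normalizer_left _ _ hxN] at hg'
    obtain ⟨b, hb, y, hy, rfl⟩ := hg'
    exact ⟨b, hb, y, hy, rfl⟩
  have hZZ' : Z ≤ Z' := by
    intro z hz
    refine ⟨le_sup_left (b := Subgroup.zpowers x) hz.1, Subgroup.mem_centralizer_iff.2 ?_⟩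
    intro g hg
    obtain ⟨b, hb, y, hy, rfl⟩ := hmem g hg
    have e1 : b * z = z * b := Subgroup.mem_centralizer_iff.1 hz.2 b hb
    have e2 : z * y = y * z := hcomm y hy z hz.1
    calc b * y * z = b * (y * z) := by group
      _ = b * z * y := by rw [← e2]; group
      _ = z * (b * y) := by rw [e1]; group
  have hB2 : B ∈ classTwoSubgroups P := by
    rcases h𝒦 with rfl | ⟨Q, rfl⟩ | ⟨Q, rfl⟩
    · exact hB
    · exact hB.1
    · exact hB.1
  have h2' : B' ∈ classTwoSubgroups P := by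
    refine Subgroup.commutator_le.2 fun g₁ hg₁ g₂ hg₂ => ?_
    obtain ⟨b₁, hb₁, y₁, hy₁, rfl⟩ := hmem g₁ hg₁
    obtain ⟨b₂, hb₂, y₂, hy₂, rfl⟩ := hmem g₂ hg₂
    obtain ⟨k₁, rfl⟩ := hy₁
    obtain ⟨k₂, rfl⟩ := hy₂
    have c1 : Commute (x ^ k₁) b₂ := (hcomm _ ⟨k₁, rfl⟩ b₂ hb₂).symm
    have c2 : Commute (x ^ k₂) b₁ := (hcomm _ ⟨k₂, rfl⟩ b₁ hb₁).symm
    have c3 : Commute (x ^ k₁) (x ^ k₂) := (Commute.refl x).zpow_zpow k₁ k₂
    have c4 : Commute b₁ (x ^ k₁) := (hcomm _ ⟨k₁, rfl⟩ b₁ hb₁)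
    have hy1 : ⁅x ^ k₁, b₂ * x ^ k₂⁆ = 1 :=
      commutatorElement_eq_one_iff_commute.2 (c1.mul_right c3)
    have hy2 : ⁅b₁, x ^ k₂⁆ = 1 := commutatorElement_eq_one_iff_commute.2 c2.symm
    have hb12 : ⁅b₁, b₂⁆ ∈ Z :=
      ⟨show b₁ * b₂ * b₁⁻¹ * b₂⁻¹ ∈ B from
        B.mul_mem (B.mul_mem (B.mul_mem hb₁ hb₂) (B.inv_mem hb₁)) (B.inv_mem hb₂),
        hB2 (Subgroup.commutator_mem_commutator hb₁ hb₂)⟩
    have : ⁅b₁ * x ^ k₁, b₂ * x ^ k₂⁆ = ⁅b₁, b₂⁆ := by
      rw [commutatorElement_mul_left_eq_conj_mul, hy1, commutatorElement_mul_right_eq_mul_conj, hy2]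
      group
    show ⁅b₁ * x ^ k₁, b₂ * x ^ k₂⁆ ∈ Subgroup.centralizer (B' : Set P)
    rw [this]
    exact (hZZ' hb12).2
  have hlt : B' ≠ B := fun h =>
    hxB (h ▸ (le_sup_right (a := B) (Subgroup.mem_zpowers x) : x ∈ B'))
  have hB'mem : B' ∈ 𝒦 := by
    have hstep : ∀ A : Subgroup P, A ≤ Subgroup.normalizer (B : Set P) → ⁅B, A⁆ ≤ Z → ⁅B', A⁆ ≤ Z' := by
      intro A hAN hBA
      refine Subgroup.commutator_le.2 fun g hg a ha => hZZ' ?_
      obtain ⟨b, hb, y, hy, rfl⟩ := hmem g hg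
      rw [commutatorElement_mul_left_eq_conj_mul]
      have h1 : ⁅y, a⁆ ∈ Z := hx y hy a (hAN ha)
      have h2 : b * ⁅y, a⁆ * b⁻¹ = ⁅y, a⁆ := by
        rw [Subgroup.mem_centralizer_iff.1 h1.2 b hb]; group
      rw [h2]
      exact mul_mem h1 (hBA (Subgroup.commutator_mem_commutator hb ha))
    rcases h𝒦 with rfl | ⟨Q, rfl⟩ | ⟨Q, rfl⟩
    · exact h2'
    · refine ⟨h2', ?_, ?_⟩
      · rw [Subgroup.le_normalizer_iff_commutator_le_right, Subgroup.commutator_comm]
        refine Subgroup.commutator_le.2 fun g hg a ha => ?_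
        obtain ⟨b, hb, y, hy, rfl⟩ := hmem g hg
        rw [commutatorElement_mul_left_eq_conj_mul]
        have h1 : ⁅y, a⁆ ∈ B := (hx y hy a (hB.2.1 ha)).1
        have h2 : ⁅b, a⁆ ∈ B := by
          rw [commutatorElement_def]
          have := (Subgroup.mem_normalizer_iff.1 (hB.2.1 ha) b⁻¹).1 (inv_mem hb)
          simpa [mul_assoc] using mul_mem hb this
        exact le_sup_left (b := Subgroup.zpowers x) (mul_mem (mul_mem (mul_mem hb h1) (inv_mem hb)) h2)
      · intro A hA hAQ hBA h1 h2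
        refine hstep A (hAQ.trans hB.2.1) (hB.2.2 A hA hAQ ((le_sup_left : B ≤ B').trans hBA) ?_ ?_)
        · exact le_bot_iff.1 ((Subgroup.commutator_mono (le_sup_left : B ≤ B') le_rfl).trans h1.le)
        · exact le_bot_iff.1
            ((Subgroup.commutator_mono (Subgroup.commutator_mono hZZ' le_rfl) le_rfl).trans h2.le)
    · refine ⟨h2', hstep Q ?_ hB.2⟩
      rw [Subgroup.le_normalizer_iff_commutator_le_right, Subgroup.commutator_comm]
      exact hB.2.trans inf_le_left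
  exact hlt (hmax B' hB'mem le_sup_left)

theorem centralizer_sSup_le [Finite P] [Group.IsNilpotent P] (𝒦 : Set (Subgroup P))
    (h𝒦 : (∃ Q, 𝒦 = kLowerStarFamily Q) ∨ ∃ Q, 𝒦 = kUpperStarFamily Q) :
    Subgroup.centralizer ((sSup 𝒦 : Subgroup P) : Set P) ≤ sSup 𝒦 := by
  have hne : 𝒦.Nonempty := by
    rcases h𝒦 with ⟨Q, rfl⟩ | ⟨Q, rfl⟩
    · exact ⟨⊥, (bot_mem Q).1⟩
    · exact ⟨⊥, (bot_mem Q).2⟩
  obtain ⟨B, hB, hmax⟩ := (Set.toFinite 𝒦).exists_maximal hne
  have hle : B ≤ sSup 𝒦 := le_sSup hB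
  exact ((Subgroup.centralizer_le hle).trans
    (centralizer_le_of_maximal B 𝒦 (Or.inr h𝒦) hB (fun C hC h => le_antisymm (hmax hC h) h))).trans hle

theorem centralizer_kInfLower_le [Finite P] [Group.IsNilpotent P] :
    Subgroup.centralizer (kInfLower P : Set P) ≤ kInfLower P := by
  obtain ⟨n, hn⟩ := exists_stable (P := P)
  rw [← (hn n le_rfl).1]
  exact centralizer_sSup_le _ (Or.inl ⟨_, rfl⟩)

theorem centralizer_kInfUpper_le [Finite P] [Group.IsNilpotent P] :
    Subgroup.centralizer (kInfUpper P : Set P) ≤ kInfUpper P := by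
  obtain ⟨n, hn⟩ := exists_stable (P := P)
  rw [← (hn (n + 1) (Nat.le_succ n)).2, kSeqOdd_succ]
  exact centralizer_sSup_le _ (Or.inr ⟨_, rfl⟩)

/-! ### Passing to a subgroup -/

section Restrict

variable {Q : Subgroup P}

theorem map_inf_centralizer (B : Subgroup ↥Q) :
    (B ⊓ Subgroup.centralizer (B : Set ↥Q)).map Q.subtype
      = B.map Q.subtype ⊓ Subgroup.centralizer ((B.map Q.subtype : Subgroup P) : Set P) := by
  ext x
  constructor
  · rintro ⟨y, ⟨hy, hyc⟩, rfl⟩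
    refine ⟨⟨y, hy, rfl⟩, Subgroup.mem_centralizer_iff.2 ?_⟩
    rintro _ ⟨z, hz, rfl⟩
    rw [← map_mul, ← map_mul, Subgroup.mem_centralizer_iff.1 hyc z hz]
  · rintro ⟨⟨y, hy, rfl⟩, hyc⟩
    refine ⟨y, ⟨hy, Subgroup.mem_centralizer_iff.2 fun z hz => ?_⟩, rfl⟩
    exact Q.subtype_injective (Subgroup.mem_centralizer_iff.1 hyc _ ⟨z, hz, rfl⟩)

theorem map_le_normalizer_iff (R B : Subgroup ↥Q) :
    R ≤ Subgroup.normalizer (B : Set ↥Q) ↔
      R.map Q.subtype ≤ Subgroup.normalizer ((B.map Q.subtype : Subgroup P) : Set P) := by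
  rw [Subgroup.le_normalizer_iff_commutator_le_right, Subgroup.le_normalizer_iff_commutator_le_right,
    ← Subgroup.map_commutator, Subgroup.map_le_map_iff_of_injective Q.subtype_injective]

theorem map_mem_classTwo_iff (B : Subgroup ↥Q) :
    B.map Q.subtype ∈ classTwoSubgroups P ↔ B ∈ classTwoSubgroups ↥Q := by
  have h1 : ⁅B.map Q.subtype, B.map Q.subtype⁆ ≤ B.map Q.subtype :=
    Subgroup.le_normalizer_iff_commutator_le_right.1 Subgroup.le_normalizer
  have h2 : ⁅B, B⁆ ≤ B := Subgroup.le_normalizer_iff_commutator_le_right.1 Subgroup.le_normalizer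
  show ⁅B.map Q.subtype, B.map Q.subtype⁆ ≤ _ ↔ ⁅B, B⁆ ≤ _
  rw [← (le_inf_iff.trans (and_iff_right h1) :
    _ ≤ B.map Q.subtype ⊓ Subgroup.centralizer ((B.map Q.subtype : Subgroup P) : Set P) ↔ _),
    ← (le_inf_iff.trans (and_iff_right h2) : _ ≤ B ⊓ Subgroup.centralizer (B : Set ↥Q) ↔ _),
    ← map_inf_centralizer, ← Subgroup.map_commutator,
    Subgroup.map_le_map_iff_of_injective Q.subtype_injective]

theorem map_mem_lower_iff (B R : Subgroup ↥Q) :
    B.map Q.subtype ∈ kLowerStarFamily (R.map Q.subtype) ↔ B ∈ kLowerStarFamily R := by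
  have inj := Subgroup.map_le_map_iff_of_injective (K := B) (H := B) Q.subtype_injective
  show (_ ∧ _ ∧ _) ↔ (_ ∧ _ ∧ _)
  refine and_congr (map_mem_classTwo_iff B) (and_congr (map_le_normalizer_iff R B).symm ⟨?_, ?_⟩)
  · intro h A hA hAR hBA h1 h2
    have := h (A.map Q.subtype) ((map_mem_classTwo_iff A).2 hA) (Subgroup.map_mono hAR)
      ((map_le_normalizer_iff B A).1 hBA)
      (by rw [← Subgroup.map_commutator, ← Subgroup.map_commutator, h1, Subgroup.map_bot])
      (by rw [← map_inf_centralizer, ← Subgroup.map_commutator, ← Subgroup.map_commutator, h2,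
        Subgroup.map_bot])
    rw [← map_inf_centralizer, ← Subgroup.map_commutator] at this
    exact (Subgroup.map_le_map_iff_of_injective Q.subtype_injective).1 this
  · intro h A hA hAR hBA h1 h2
    have hAQ : A ≤ Q := hAR.trans (Subgroup.map_subtype_le R)
    have e : (A.subgroupOf Q).map Q.subtype = A := Subgroup.map_subgroupOf_eq_of_le hAQ
    rw [← e] at hA hAR hBA h1 h2 ⊢
    rw [Subgroup.map_le_map_iff_of_injective Q.subtype_injective] at hAR
    rw [← Subgroup.map_commutator, ← Subgroup.map_commutator,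
      Subgroup.map_eq_bot_iff_of_injective _ Q.subtype_injective] at h1
    rw [← map_inf_centralizer, ← Subgroup.map_commutator, ← Subgroup.map_commutator,
      Subgroup.map_eq_bot_iff_of_injective _ Q.subtype_injective] at h2
    rw [← map_inf_centralizer, ← Subgroup.map_commutator]
    exact Subgroup.map_mono
      (h _ ((map_mem_classTwo_iff _).1 hA) hAR ((map_le_normalizer_iff _ _).2 hBA) h1 h2)

theorem map_mem_upper_iff (B R : Subgroup ↥Q) :
    B.map Q.subtype ∈ kUpperStarFamily (R.map Q.subtype) ↔ B ∈ kUpperStarFamily R := by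
  show (_ ∧ _) ↔ (_ ∧ _)
  refine and_congr (map_mem_classTwo_iff B) ?_
  rw [← map_inf_centralizer, ← Subgroup.map_commutator,
    Subgroup.map_le_map_iff_of_injective Q.subtype_injective]

theorem map_sSup_lower_le (R : Subgroup ↥Q) :
    (sSup (kLowerStarFamily R)).map Q.subtype ≤ sSup (kLowerStarFamily (R.map Q.subtype)) := by
  rw [Subgroup.map_le_iff_le_comap]
  exact sSup_le fun B hB =>
    Subgroup.map_le_iff_le_comap.1 (le_sSup ((map_mem_lower_iff B R).2 hB))

theorem le_map_sSup_lower (R : Subgroup ↥Q) (R' : Subgroup P) (hR : R.map Q.subtype ≤ R')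
    (hle : ∀ B ∈ kLowerStarFamily R', B ≤ Q) :
    sSup (kLowerStarFamily R') ≤ (sSup (kLowerStarFamily R)).map Q.subtype := by
  refine sSup_le fun B hB => ?_
  have e : (B.subgroupOf Q).map Q.subtype = B := Subgroup.map_subgroupOf_eq_of_le (hle B hB)
  rw [← e]
  refine Subgroup.map_mono (le_sSup ((map_mem_lower_iff _ R).1 ?_))
  rw [e]
  exact kLowerStarFamily_antitone hR hB

theorem map_sSup_upper_le (R : Subgroup ↥Q) :
    (sSup (kUpperStarFamily R)).map Q.subtype ≤ sSup (kUpperStarFamily (R.map Q.subtype)) := by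
  rw [Subgroup.map_le_iff_le_comap]
  exact sSup_le fun B hB =>
    Subgroup.map_le_iff_le_comap.1 (le_sSup ((map_mem_upper_iff B R).2 hB))

theorem le_map_sSup_upper (R : Subgroup ↥Q) (R' : Subgroup P) (hR : R.map Q.subtype ≤ R')
    (hle : ∀ B ∈ kUpperStarFamily R', B ≤ Q) :
    sSup (kUpperStarFamily R') ≤ (sSup (kUpperStarFamily R)).map Q.subtype := by
  refine sSup_le fun B hB => ?_
  have e : (B.subgroupOf Q).map Q.subtype = B := Subgroup.map_subgroupOf_eq_of_le (hle B hB)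
  rw [← e]
  refine Subgroup.map_mono (le_sSup ((map_mem_upper_iff _ R).1 ?_))
  rw [e]
  exact kUpperStarFamily_antitone hR hB

theorem map_kInf_eq [Finite P] (hQ : ∀ n : ℕ, kSeqEven P n ≤ Q ∧ kSeqOdd P (n + 1) ≤ Q) :
    (kInfLower ↥Q).map Q.subtype = kInfLower P ∧ (kInfUpper ↥Q).map Q.subtype = kInfUpper P := by
  -- interleaving of the two sequences
  have low : ∀ n (R : Subgroup ↥Q), kSeqOdd P (n + 1) ≤ R.map Q.subtype →
      R.map Q.subtype ≤ kSeqOdd P n → kSeqEven P n ≤ (sSup (kLowerStarFamily R)).map Q.subtype ∧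
        (sSup (kLowerStarFamily R)).map Q.subtype ≤ kSeqEven P (n + 1) := by
    intro n R h1 h2
    refine ⟨le_map_sSup_lower R _ h2 fun B hB => (le_sSup hB : B ≤ kSeqEven P n).trans (hQ n).1, ?_⟩
    exact (map_sSup_lower_le R).trans (sSup_le_sSup (kLowerStarFamily_antitone h1))
  have main : ∀ n, kSeqOdd P (n + 1) ≤ (kSeqOdd ↥Q n).map Q.subtype ∧
      (kSeqOdd ↥Q n).map Q.subtype ≤ kSeqOdd P n := by
    intro n
    induction n with
    | zero =>
      refine ⟨?_, le_top⟩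
      rw [kSeqOdd_zero, ← MonoidHom.range_eq_map, Subgroup.range_subtype]
      exact (hQ 0).2
    | succ n ih =>
      obtain ⟨e1, e2⟩ := low n _ ih.1 ih.2
      rw [kSeqOdd_succ (P := ↥Q)]
      refine ⟨?_, ?_⟩
      · exact le_map_sSup_upper _ _ e2 fun B hB =>
          (le_sSup hB : B ≤ kSeqOdd P (n + 2)).trans (hQ (n + 1)).2
      · exact (map_sSup_upper_le _).trans (sSup_le_sSup (kUpperStarFamily_antitone e1))
  obtain ⟨n, hn⟩ := exists_stable (P := P)
  obtain ⟨m, hm⟩ := exists_stable (P := ↥Q)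
  set k := max n m
  have hk : n ≤ k ∧ m ≤ k := ⟨le_max_left _ _, le_max_right _ _⟩
  constructor
  · rw [← (hm k hk.2).1]
    obtain ⟨e1, e2⟩ := low k _ (main k).1 (main k).2
    exact le_antisymm (e2.trans (le_iSup (kSeqEven P) (k + 1))) ((hn k hk.1).1 ▸ e1)
  · rw [← (hm k hk.2).2]
    exact le_antisymm ((main k).2.trans (hn k hk.1).2.le)
      ((iInf_le (kSeqOdd P) (k + 1)).trans (main k).1)

end Restrict

end Cfsg.Agent.KInfinity
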