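/-
Invariance of the K-infinity subgroups under isomorphisms.

Main results: `map_kInfLower`, `map_kInfUpper`, `isCharPFunctor_kInfLower`, `isCharPFunctor_kInfUpper`.
-/
import Cfsg.Agent.Lib.KInfinity.Basic

set_option autoImplicit false
open Cfsg
open scoped commutatorElement

namespace Cfsg.Agent.KInfinity

variable {P R : Type*} [Group P] [Group R]

theorem map_equiv_inf_centralizer (e : P ≃* R) (B : Subgroup P) :
    (B ⊓ Subgroup.centralizer (B : Set P)).map e.toMonoidHom =
      B.map e.toMonoidHom ⊓ Subgroup.centralizer ((B.map e.toMonoidHom : Subgroup R) : Set R) := by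
  ext x
  obtain ⟨y, rfl⟩ := e.surjective x
  simp only [Subgroup.mem_inf, Subgroup.mem_map_equiv, MulEquiv.symm_apply_apply,
    Subgroup.mem_centralizer_iff, SetLike.mem_coe]
  refine and_congr_right fun _ => ⟨fun h z hz => ?_, fun h z hz => ?_⟩
  · apply e.symm.injective
    simpa using h _ hz
  · apply e.injective
    simpa using h (e z) (by simpa using hz)

theorem map_equiv_le_normalizer (e : P ≃* R) {A B : Subgroup P} (h : A ≤ Subgroup.normalizer (B : Set P)) :
    A.map e.toMonoidHom ≤ Subgroup.normalizer ((B.map e.toMonoidHom : Subgroup R) : Set R) := by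
  rw [← Subgroup.map_equiv_normalizer_eq B e]
  exact Subgroup.map_mono h

theorem map_classTwo (e : P ≃* R) {B : Subgroup P} (h : B ∈ classTwoSubgroups P) :
    B.map e.toMonoidHom ∈ classTwoSubgroups R := by
  have h1 : ⁅B, B⁆ ≤ B ⊓ Subgroup.centralizer (B : Set P) :=
    le_inf (Subgroup.le_normalizer_iff_commutator_le_right.1 Subgroup.le_normalizer) h
  have := Subgroup.map_mono (f := e.toMonoidHom) h1
  rw [Subgroup.map_commutator, map_equiv_inf_centralizer] at this
  exact this.trans inf_le_right

theorem map_lower (e : P ≃* R) {B Q : Subgroup P} (h : B ∈ kLowerStarFamily Q) :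
    B.map e.toMonoidHom ∈ kLowerStarFamily (Q.map e.toMonoidHom) := by
  refine ⟨map_classTwo e h.1, map_equiv_le_normalizer e h.2.1, fun A hA hAQ hBA h1 h2 => ?_⟩
  obtain ⟨A, rfl⟩ : ∃ A' : Subgroup P, A'.map e.toMonoidHom = A :=
    ⟨A.comap e.toMonoidHom, Subgroup.map_comap_eq_self_of_surjective e.surjective A⟩
  have hA' : A ∈ classTwoSubgroups P := by
    have := map_classTwo e.symm hA
    rwa [Subgroup.map_map, show e.symm.toMonoidHom.comp e.toMonoidHom = MonoidHom.id P from
      MonoidHom.ext fun x => e.symm_apply_apply x, Subgroup.map_id] at this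
  have hBA' : B ≤ Subgroup.normalizer (A : Set P) := by
    rw [← Subgroup.map_equiv_normalizer_eq A e] at hBA
    exact (Subgroup.map_le_map_iff_of_injective (f := e.toMonoidHom) e.injective).1 hBA
  rw [← map_equiv_inf_centralizer, ← Subgroup.map_commutator]
  refine Subgroup.map_mono (h.2.2 A hA' ((Subgroup.map_le_map_iff_of_injective (f := e.toMonoidHom) e.injective).1 hAQ)
    hBA' ?_ ?_)
  · rw [← Subgroup.map_commutator, ← Subgroup.map_commutator,
      Subgroup.map_eq_bot_iff_of_injective _ (f := e.toMonoidHom) e.injective] at h1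
    exact h1
  · rw [← map_equiv_inf_centralizer, ← Subgroup.map_commutator, ← Subgroup.map_commutator,
      Subgroup.map_eq_bot_iff_of_injective _ (f := e.toMonoidHom) e.injective] at h2
    exact h2

theorem map_upper (e : P ≃* R) {B Q : Subgroup P} (h : B ∈ kUpperStarFamily Q) :
    B.map e.toMonoidHom ∈ kUpperStarFamily (Q.map e.toMonoidHom) := by
  refine ⟨map_classTwo e h.1, ?_⟩
  rw [← map_equiv_inf_centralizer, ← Subgroup.map_commutator]
  exact Subgroup.map_mono h.2

theorem map_kSeq (e : P ≃* R) :
    ∀ n, (kSeqOdd P n).map e.toMonoidHom = kSeqOdd R n ∧ (kSeqEven P n).map e.toMonoidHom = kSeqEven R n := by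
  have hid : ∀ (P R : Type _) [Group P] [Group R] (e : P ≃* R) (B : Subgroup R),
      (B.map e.symm.toMonoidHom).map e.toMonoidHom = B := fun P R _ _ e B => by
    rw [Subgroup.map_map, show e.toMonoidHom.comp e.symm.toMonoidHom = MonoidHom.id R from
      MonoidHom.ext fun x => e.apply_symm_apply x, Subgroup.map_id]
  have hid' : ∀ B : Subgroup P, (B.map e.toMonoidHom).map e.symm.toMonoidHom = B := fun B => by
    rw [Subgroup.map_map, show e.symm.toMonoidHom.comp e.toMonoidHom = MonoidHom.id P from
      MonoidHom.ext fun x => e.symm_apply_apply x, Subgroup.map_id]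
  have heven : ∀ Q : Subgroup P,
      (sSup (kLowerStarFamily Q)).map e.toMonoidHom = sSup (kLowerStarFamily (Q.map e.toMonoidHom)) := by
    intro Q
    refine le_antisymm (Subgroup.map_le_iff_le_comap.2 (sSup_le fun B hB =>
      Subgroup.map_le_iff_le_comap.1 (le_sSup (map_lower e hB)))) (sSup_le fun B hB => ?_)
    rw [← hid P R e B]
    have := map_lower e.symm hB
    rw [hid'] at this
    exact Subgroup.map_mono (le_sSup this)
  have hodd : ∀ Q : Subgroup P,
      (sSup (kUpperStarFamily Q)).map e.toMonoidHom = sSup (kUpperStarFamily (Q.map e.toMonoidHom)) := by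
    intro Q
    refine le_antisymm (Subgroup.map_le_iff_le_comap.2 (sSup_le fun B hB =>
      Subgroup.map_le_iff_le_comap.1 (le_sSup (map_upper e hB)))) (sSup_le fun B hB => ?_)
    rw [← hid P R e B]
    have := map_upper e.symm hB
    rw [hid'] at this
    exact Subgroup.map_mono (le_sSup this)
  intro n
  induction n with
  | zero =>
    have h0 : (kSeqOdd P 0).map e.toMonoidHom = kSeqOdd R 0 :=
      Subgroup.map_top_of_surjective e.toMonoidHom e.surjective
    refine ⟨h0, ?_⟩
    show (sSup (kLowerStarFamily (kSeqOdd P 0))).map _ = sSup (kLowerStarFamily (kSeqOdd R 0))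
    rw [heven, h0]
  | succ n ih =>
    have h1 : (kSeqOdd P (n + 1)).map e.toMonoidHom = kSeqOdd R (n + 1) := by
      rw [kSeqOdd_succ, kSeqOdd_succ, hodd, ih.2]
    refine ⟨h1, ?_⟩
    show (sSup (kLowerStarFamily (kSeqOdd P (n + 1)))).map _ = sSup (kLowerStarFamily (kSeqOdd R (n + 1)))
    rw [heven, h1]

theorem map_kInfLower {P R : Type*} [Group P] [Group R] (e : P ≃* R) :
    (kInfLower P).map e.toMonoidHom = kInfLower R := by
  rw [kInfLower, kInfLower, Subgroup.map_iSup]
  exact iSup_congr fun n => (map_kSeq e n).2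

theorem map_kInfUpper {P R : Type*} [Group P] [Group R] (e : P ≃* R) :
    (kInfUpper P).map e.toMonoidHom = kInfUpper R := by
  rw [kInfUpper, kInfUpper, Subgroup.map_iInf _ e.injective]
  exact iInf_congr fun n => (map_kSeq e n).1

instance kInfLower_characteristic (P : Type*) [Group P] : (kInfLower P).Characteristic :=
  Subgroup.characteristic_iff_map_eq.2 fun φ => map_kInfLower φ

instance kInfUpper_characteristic (P : Type*) [Group P] : (kInfUpper P).Characteristic :=
  Subgroup.characteristic_iff_map_eq.2 fun φ => map_kInfUpper φ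

theorem ne_bot_of_centralizer_le {Q : Type*} [Group Q] [Nontrivial Q] {W : Subgroup Q}
    (h : Subgroup.centralizer (W : Set Q) ≤ W) : W ≠ ⊥ := by
  intro e
  obtain ⟨x, hx⟩ := exists_ne (1 : Q)
  subst e
  exact hx (Subgroup.mem_bot.1 (h (by simp [Subgroup.mem_centralizer_iff])))

universe u

theorem isCharPFunctor_kInfLower (p : ℕ) [Fact p.Prime] : IsCharPFunctor.{u} p Cfsg.kInfLower :=
  ⟨fun Q _ _ hQ _ => by
    have := hQ.isNilpotent
    exact ne_bot_of_centralizer_le centralizer_kInfLower_le,
    fun _ _ _ _ _ _ φ => map_kInfLower φ⟩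

theorem isCharPFunctor_kInfUpper (p : ℕ) [Fact p.Prime] : IsCharPFunctor.{u} p Cfsg.kInfUpper :=
  ⟨fun Q _ _ hQ _ => by
    have := hQ.isNilpotent
    exact ne_bot_of_centralizer_le centralizer_kInfUpper_le,
    fun _ _ _ _ _ _ φ => map_kInfUpper φ⟩

end Cfsg.Agent.KInfinity
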