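/-
Nilpotent action on chief factors lifts from a self-centralizing class-two subgroup to a normal p-group.

Main result: `Cfsg.Agent.KInfinity.iterCommutator_chief_le`.
-/
import Cfsg.Agent.Lib.KInfinity.Chief

set_option autoImplicit false
open Cfsg
open scoped commutatorElement

namespace Cfsg.Agent.KInfinity

variable {G : Type*} [Group G] {p : ℕ}

theorem conj_mem_iterCommutator {W H : Subgroup G} [W.Normal] {h : G} (hh : h ∈ H) :
    ∀ n, ∀ x ∈ iterCommutator W H n, h * x * h⁻¹ ∈ iterCommutator W H n := by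
  suffices ∀ n, ∀ k ∈ H, (iterCommutator W H n).map (MulAut.conj k).toMonoidHom ≤ iterCommutator W H n from
    fun n x hx => this n h hh ⟨x, hx, rfl⟩
  intro n
  induction n with
  | zero => exact fun k _ => Subgroup.map_le_iff_le_comap.2 fun x hx => ‹W.Normal›.conj_mem x hx k
  | succ n ih =>
    intro k hk
    show (⁅iterCommutator W H n, H⁆).map _ ≤ _
    rw [Subgroup.map_commutator]
    refine Subgroup.commutator_mono (ih k hk) (Subgroup.map_le_iff_le_comap.2 fun x hx => ?_)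
    exact H.mul_mem (H.mul_mem hk hx) (H.inv_mem hk)

theorem iterCommutator_succ_le {W H : Subgroup G} [W.Normal] (n : ℕ) :
    iterCommutator W H (n + 1) ≤ iterCommutator W H n := by
  refine Subgroup.commutator_le.2 fun x hx h hh => ?_
  have := (iterCommutator W H n).mul_mem hx (conj_mem_iterCommutator hh n x⁻¹ (inv_mem hx))
  simpa [commutatorElement_def, mul_assoc] using this

theorem chief_inf [Finite G] {U V K : Subgroup G} (h : IsChiefFactor U V) [K.Normal] (hUK : U ≤ (U ⊓ K) ⊔ V) :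
    IsChiefFactor (U ⊓ K) (V ⊓ K) := by
  obtain ⟨hlt, hUn, hVn, hmax⟩ := h
  haveI := hUn
  haveI := hVn
  refine ⟨lt_of_le_of_ne (inf_le_inf_right K hlt.le) fun e => ?_, inferInstance, inferInstance, ?_⟩
  · exact hlt.not_ge (hUK.trans (sup_le (e ▸ inf_le_left) le_rfl))
  intro N hN h1 h2
  rcases hmax (N ⊔ V) inferInstance le_sup_right (sup_le (h2.trans inf_le_left) hlt.le) with h3 | h3
  · exact Or.inl (le_antisymm (le_inf (h3 ▸ le_sup_left) (h2.trans inf_le_right)) h1)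
  · refine Or.inr (le_antisymm h2 fun x hx => ?_)
    have hx' : x ∈ ((N ⊔ V : Subgroup G) : Set G) := h3.symm ▸ hx.1
    rw [Subgroup.mul_normal] at hx'
    obtain ⟨a, ha, v, hv, rfl⟩ := hx'
    refine mul_mem ha (h1 ⟨hv, ?_⟩)
    have := K.mul_mem (K.inv_mem (h2 ha).2) hx.2
    simpa using this

theorem iterCommutator_chief_le [Finite G] [Fact p.Prime] {P Q : Subgroup G} [P.Normal]
    (hP : IsPGroup p P) [Q.Normal] (hQP : Q ≤ P)
    (hPQ : ⁅P, Q⁆ ≤ Q ⊓ Subgroup.centralizer (Q : Set G))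
    (hC : P ⊓ Subgroup.centralizer (Q : Set G) ≤ Q ⊓ Subgroup.centralizer (Q : Set G))
    (g : G) {i j : ℕ} (hi : 1 ≤ i) (_hj : 1 ≤ j)
    (hQi : ∀ U V : Subgroup G, IsChiefFactor U V → U ≤ Q → iterCommutator U (Subgroup.zpowers g) i ≤ V)
    (hZj : ∀ U V : Subgroup G, IsChiefFactor U V → U ≤ Q ⊓ Subgroup.centralizer (Q : Set G) →
      iterCommutator U (Subgroup.zpowers g) j ≤ V) :
    ∀ U V : Subgroup G, IsChiefFactor U V → U ≤ P →
      iterCommutator U (Subgroup.zpowers g) (i + j - 1) ≤ V := by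
  intro U V hUV hUP
  set Z := Q ⊓ Subgroup.centralizer (Q : Set G) with hZ
  set H := Subgroup.zpowers g
  obtain ⟨hlt, hUn, hVn, hmax⟩ := hUV
  haveI := hUn
  haveI := hVn
  haveI hZn : Z.Normal := by rw [hZ]; infer_instance
  have dich : ∀ X : Subgroup G, X.Normal → ¬ U ⊓ X ≤ V → U ≤ (U ⊓ X) ⊔ V := by
    intro X hX hnot
    rcases hmax ((U ⊓ X) ⊔ V) inferInstance le_sup_right (sup_le inf_le_left hlt.le) with h | h
    · exact absurd (h ▸ le_sup_left) hnot
    · exact h.ge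
  by_cases hUZ : U ⊓ Z ≤ V
  swap
  · -- the factor lives inside `Z`
    haveI : (V ⊓ Z).Normal := inferInstance
    have h1 := hZj _ _ (chief_inf ⟨hlt, hUn, hVn, hmax⟩ (dich Z hZn hUZ)) inf_le_right
    have h2 : iterCommutator (U ⊓ Z) H (i + j - 1) ≤ V :=
      (iterCommutator_le_of_le (show j ≤ i + j - 1 by omega) h1).trans inf_le_left
    exact iterCommutator_sup_le (dich Z hZn hUZ) h2
  -- a minimal normal subgroup of `Q` not centralized by the factor
  obtain ⟨W, -, hWmin⟩ := Finite.exists_le_minimal (α := Subgroup G)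
    (p := fun W => W.Normal ∧ W ≤ Q ∧ U ⊓ Subgroup.centralizer (W : Set G) ≤ V) (a := Q)
    ⟨‹_›, le_rfl, fun x hx => hUZ ⟨hx.1, hC ⟨hUP hx.1, hx.2⟩⟩⟩
  obtain ⟨hWn, hWQ, hWV⟩ := hWmin.prop
  haveI := hWn
  have hW1 : W ≠ ⊥ := fun e => hlt.not_ge fun x hx => hWV ⟨hx, by rw [e]; simp [Subgroup.mem_centralizer_iff]⟩
  obtain ⟨W₀, hW₀⟩ := exists_chief_below hW1
  haveI := hW₀.2.2.1
  have hU₁ : ¬ U ⊓ Subgroup.centralizer (W₀ : Set G) ≤ V := fun h =>
    hW₀.1.not_ge (hWmin.2 ⟨hW₀.2.2.1, hW₀.1.le.trans hWQ, h⟩ hW₀.1.le)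
  set U₁ := U ⊓ Subgroup.centralizer (W₀ : Set G) with hU₁def
  haveI : U₁.Normal := by rw [hU₁def]; infer_instance
  -- a minimal normal subgroup of `Z` receiving the commutators
  obtain ⟨Y, -, hYmin⟩ := Finite.exists_le_minimal (α := Subgroup G)
    (p := fun Y => Y ≤ Z ∧ ∃ hY : Y.Normal, ¬ U₁ ⊓ @centMod G _ W Y hY ≤ V) (a := Z)
    ⟨le_rfl, hZn, fun h => hU₁ fun x hx => h ⟨hx, mem_centMod.2 fun w hw => by
      rw [← commutatorElement_inv]
      exact inv_mem (hPQ (Subgroup.commutator_mem_commutator (hUP hx.1) (hWQ hw)))⟩⟩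
  obtain ⟨hYZ, hYn, hY⟩ := hYmin.prop
  haveI := hYn
  have hY1 : Y ≠ ⊥ := by
    rintro rfl
    refine hY fun x hx => hWV ⟨hx.1.1, Subgroup.mem_centralizer_iff.2 fun w hw => ?_⟩
    have := mem_centMod.1 hx.2 w hw
    exact commutatorElement_eq_one_iff_mul_comm.1 (Subgroup.mem_bot.1 this)
  obtain ⟨Y₀, hY₀⟩ := exists_chief_below hY1
  haveI := hY₀.2.2.1
  have hUY₀ : U₁ ⊓ centMod W Y₀ ≤ V := by
    by_contra h
    exact hY₀.1.not_ge (hYmin.2 ⟨hY₀.1.le.trans hYZ, hY₀.2.2.1, h⟩ hY₀.1.le)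
  haveI := centMod_normal W Y
  set U₂ := U₁ ⊓ centMod W Y with hU₂def
  haveI : U₂.Normal := by rw [hU₂def]; infer_instance
  have hU₂U : U ≤ U₂ ⊔ V := by
    have h' : ¬ U ⊓ U₂ ≤ V := fun h => hY fun x hx => h ⟨hx.1.1, hx⟩
    exact (dich U₂ inferInstance h').trans (sup_le_sup_right inf_le_right _)
  have hU₂P : U₂ ≤ P := (inf_le_left.trans inf_le_left).trans hUP
  have hW₀U₂ : ∀ u ∈ U₂, ∀ w ∈ W₀, ⁅u, w⁆ = 1 := fun u hu w hw =>
    commutatorElement_eq_one_iff_mul_comm.2 (Subgroup.mem_centralizer_iff.1 hu.1.2 w hw).symm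
  have hYW : ∀ u ∈ U₂, ∀ w ∈ W, ⁅u, w⁆ ∈ Y := fun u hu w hw => by
    rw [← commutatorElement_inv]; exact inv_mem (mem_centMod.1 hu.2 w hw)
  have hYP : ∀ u ∈ P, ∀ y ∈ Y, ⁅y, u⁆ ∈ Y₀ := fun u hu y hy =>
    commutator_le_of_chief hY₀ (hP.to_le (hYZ.trans (inf_le_left.trans hQP))) hP
      (Subgroup.commutator_mem_commutator hy hu)
  -- filtrations
  let YL : ℕ → Subgroup G := fun c => iterCommutator Y H c ⊔ Y₀
  let WL : ℕ → Subgroup G := fun m => iterCommutator W H m ⊔ W₀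
  have hYLY : ∀ c, YL c ≤ Y := fun c => sup_le (iterCommutator_normal_le c) hY₀.1.le
  have hWLW : ∀ m, WL m ≤ W := fun m => sup_le (iterCommutator_normal_le m) hW₀.1.le
  have hYmono : ∀ c d, c ≤ d → YL d ≤ YL c := fun c d hcd => by
    obtain ⟨k, rfl⟩ := Nat.exists_eq_add_of_le hcd
    induction k with
    | zero => exact le_rfl
    | succ k ih => exact (sup_le_sup_right (iterCommutator_succ_le _) _).trans (ih (Nat.le_add_right _ _))
  have hYconj : ∀ u ∈ P, ∀ c, ∀ y ∈ YL c, u * y * u⁻¹ ∈ YL c := by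
    intro u hu c y hy
    have h1 : ⁅y, u⁆ ∈ Y₀ := hYP u hu y (hYLY c hy)
    have h2 : u * y * u⁻¹ = ⁅y, u⁆⁻¹ * y := by simp [commutatorElement_def, mul_assoc]
    rw [h2]
    exact mul_mem (Subgroup.mem_sup_right (inv_mem h1)) hy
  have hWconj : ∀ h ∈ H, ∀ m, ∀ w ∈ WL m, h⁻¹ * w * h ∈ WL m := by
    intro h hh m w hw
    have hw' : w ∈ ((iterCommutator W H m ⊔ W₀ : Subgroup G) : Set G) := hw
    rw [Subgroup.mul_normal] at hw'
    obtain ⟨a, ha, b, hb, rfl⟩ := hw'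
    have e : h⁻¹ * (a * b) * h = (h⁻¹ * a * h⁻¹⁻¹) * (h⁻¹ * b * h⁻¹⁻¹) := by group
    rw [e]
    exact mul_mem (Subgroup.mem_sup_left (conj_mem_iterCommutator (inv_mem hh) m a ha))
      (Subgroup.mem_sup_right (Subgroup.Normal.conj_mem inferInstance b hb _))
  have hWstep : ∀ h ∈ H, ∀ m, ∀ w ∈ WL m, ⁅h, w⁆ ∈ WL (m + 1) := by
    intro h hh m w hw
    have : ⁅WL m, H⁆ ≤ WL (m + 1) := by
      refine Subgroup.commutator_le.2 fun x hx y hy => ?_
      have hx' : x ∈ ((iterCommutator W H m ⊔ W₀ : Subgroup G) : Set G) := hx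
      rw [Subgroup.mul_normal] at hx'
      obtain ⟨a, ha, b, hb, rfl⟩ := hx'
      rw [commutatorElement_mul_left_eq_conj_mul]
      refine mul_mem (Subgroup.mem_sup_right (Subgroup.Normal.conj_mem inferInstance _ ?_ a))
        (Subgroup.mem_sup_left (Subgroup.commutator_mem_commutator ha hy))
      exact Subgroup.commutator_le_left W₀ ⊤ (Subgroup.commutator_mem_commutator hb (Subgroup.mem_top y))
    rw [← commutatorElement_inv]
    exact inv_mem (this (Subgroup.commutator_mem_commutator hw hh))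
  have hYstep : ∀ h ∈ H, ∀ c, ∀ y ∈ YL c, ⁅y, h⁆ ∈ YL (c + 1) := by
    intro h hh c y hy
    have hy' : y ∈ ((iterCommutator Y H c ⊔ Y₀ : Subgroup G) : Set G) := hy
    rw [Subgroup.mul_normal] at hy'
    obtain ⟨a, ha, b, hb, rfl⟩ := hy'
    rw [commutatorElement_mul_left_eq_conj_mul]
    refine mul_mem (Subgroup.mem_sup_right (Subgroup.Normal.conj_mem inferInstance _ ?_ a))
      (Subgroup.mem_sup_left (Subgroup.commutator_mem_commutator ha hh))
    exact Subgroup.commutator_le_left Y₀ ⊤ (Subgroup.commutator_mem_commutator hb (Subgroup.mem_top h))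
  have main : ∀ n, ∀ u ∈ iterCommutator U₂ H n, ∀ m, ∀ w ∈ WL m, ⁅u, w⁆ ∈ YL (n + m - (i - 1)) := by
    intro n
    induction n with
    | zero =>
      intro u hu m w hw
      by_cases hm : m ≤ i - 1
      · rw [show 0 + m - (i - 1) = 0 by omega]
        exact Subgroup.mem_sup_left (hYW u hu w (hWLW m hw))
      · have : WL m ≤ W₀ := sup_le
          (iterCommutator_le_of_le (show i ≤ m by omega) (hQi W W₀ hW₀ hWQ)) le_rfl
        rw [hW₀U₂ u hu w (this hw)]
        exact one_mem _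
    | succ n ih =>
      intro x hx
      have hx' : x ∈ ⁅iterCommutator U₂ H n, H⁆ := hx
      rw [Subgroup.commutator_def] at hx'
      induction hx' using Subgroup.closure_induction with
      | one => intro m w _; rw [commutatorElement_one_left]; exact one_mem _
      | mul a b ha hb iha ihb =>
        intro m w hw
        rw [commutatorElement_mul_left_eq_conj_mul]
        have haU : a ∈ U₂ := iterCommutator_normal_le (n + 1) (by
          show a ∈ ⁅iterCommutator U₂ H n, H⁆; rw [Subgroup.commutator_def]; exact ha)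
        exact mul_mem (hYconj a (hU₂P haU) _ _ (ihb hb m w hw)) (iha ha m w hw)
      | inv a ha iha =>
        intro m w hw
        have haU : a ∈ U₂ := iterCommutator_normal_le (n + 1) (by
          show a ∈ ⁅iterCommutator U₂ H n, H⁆; rw [Subgroup.commutator_def]; exact ha)
        have e : ⁅a⁻¹, w⁆ = a⁻¹ * ⁅a, w⁆⁻¹ * a⁻¹⁻¹ := by simp [commutatorElement_def, mul_assoc]
        rw [e]
        exact hYconj _ (inv_mem (hU₂P haU)) _ _ (inv_mem (iha ha m w hw))
      | mem x hx'' =>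
        obtain ⟨u, hu, h, hh, rfl⟩ := hx''
        intro m w hw
        have huU : u ∈ U₂ := iterCommutator_normal_le n hu
        set w' := h⁻¹ * w * h with hw'def
        have hw' : w' ∈ WL m := hWconj h hh m w hw
        set c := n + 1 + m - (i - 1) with hc
        have he : ⁅h, w'⁆ ∈ WL (m + 1) := hWstep h hh m w' hw'
        have hue : ⁅u, ⁅h, w'⁆⁆ ∈ YL c := by
          have := ih u hu (m + 1) _ he
          rwa [show n + (m + 1) - (i - 1) = c by omega] at this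
        set z := ⁅u, w'⁆ with hzdef
        have hz : z ∈ YL (n + m - (i - 1)) := ih u hu m w' hw'
        have hzh : ⁅z⁻¹, h⁆ ∈ YL c :=
          hYmono c (n + m - (i - 1) + 1) (by omega) (hYstep h hh _ _ (inv_mem hz))
        -- compute modulo `Y₀`
        let q := QuotientGroup.mk' Y₀
        have hcu : ∀ y ∈ Y, q u * q y * (q u)⁻¹ = q y := fun y hy => by
          have h1 : q ⁅y, u⁆ = 1 := (QuotientGroup.eq_one_iff _).2 (hYP u (hU₂P huU) y hy)
          rw [map_commutatorElement, commutatorElement_eq_one_iff_mul_comm] at h1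
          rw [← h1]; group
        have hez : ⁅h, w'⁆ * z * ⁅h, w'⁆⁻¹ = z := by
          have h1 : ⁅h, w'⁆ * z = z * ⁅h, w'⁆ :=
            Subgroup.mem_centralizer_iff.1 (hYZ (hYLY _ hz)).2 _ (hWQ (hWLW _ he))
          rw [h1]; group
        have hw_eq : w = ⁅h, w'⁆ * w' := by rw [hw'def]; simp [commutatorElement_def, mul_assoc]
        have huw : ⁅u, w⁆ = ⁅u, ⁅h, w'⁆⁆ * z := by
          conv_lhs => rw [hw_eq]
          rw [commutatorElement_mul_right_eq_mul_conj]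
          calc ⁅u, ⁅h, w'⁆⁆ * ⁅h, w'⁆ * ⁅u, w'⁆ * ⁅h, w'⁆⁻¹
              = ⁅u, ⁅h, w'⁆⁆ * (⁅h, w'⁆ * z * ⁅h, w'⁆⁻¹) := by rw [hzdef]; group
            _ = ⁅u, ⁅h, w'⁆⁆ * z := by rw [hez]
        have hinv : ⁅u⁻¹, w'⁆ = u⁻¹ * z⁻¹ * u⁻¹⁻¹ := by simp [hzdef, commutatorElement_def, mul_assoc]
        have key : ⁅⁅u, h⁆, w⁆ = u * (h * (u⁻¹ * z⁻¹ * u⁻¹⁻¹) * h⁻¹) * u⁻¹ * (⁅u, ⁅h, w'⁆⁆ * z) := by
          rw [← huw, ← hinv, hw'def]
          simp [commutatorElement_def, mul_assoc]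
        have hzY : z ∈ Y := hYLY _ hz
        have hzi : z⁻¹ ∈ Y := inv_mem hzY
        have hq : q ⁅⁅u, h⁆, w⁆ = q (h * z⁻¹ * h⁻¹ * ⁅u, ⁅h, w'⁆⁆ * z) := by
          have hzu : q (u⁻¹ * z⁻¹ * u⁻¹⁻¹) = q z⁻¹ := by
            have := hcu _ hzi
            rw [map_mul, map_mul, map_inv q u⁻¹, map_inv q u, inv_inv]
            conv_lhs => rw [← this]
            group
          have hhz : h * z⁻¹ * h⁻¹ ∈ Y := Subgroup.Normal.conj_mem inferInstance _ hzi h
          have hh2 : q (h * (u⁻¹ * z⁻¹ * u⁻¹⁻¹) * h⁻¹) = q (h * z⁻¹ * h⁻¹) := by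
            rw [map_mul, map_mul, hzu, ← map_mul, ← map_mul]
          rw [key, map_mul, map_mul, map_mul, map_inv q u, hh2, hcu _ hhz, ← map_mul, ← mul_assoc]
        have hmem : h * z⁻¹ * h⁻¹ * ⁅u, ⁅h, w'⁆⁆ * z ∈ YL c := by
          have e : h * z⁻¹ * h⁻¹ * ⁅u, ⁅h, w'⁆⁆ * z =
              ⁅z⁻¹, h⁆⁻¹ * (z⁻¹ * ⁅u, ⁅h, w'⁆⁆ * z) := by simp [commutatorElement_def, mul_assoc]
          rw [e]
          refine mul_mem (inv_mem hzh) ?_
          have := hYconj z⁻¹ (inv_mem (hQP (hYZ hzY).1)) c _ hue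
          simpa using this
        have hdiff : ⁅⁅u, h⁆, w⁆ * (h * z⁻¹ * h⁻¹ * ⁅u, ⁅h, w'⁆⁆ * z)⁻¹ ∈ Y₀ := by
          rw [← QuotientGroup.eq_one_iff, ← QuotientGroup.mk'_apply, map_mul, map_inv]
          exact mul_inv_eq_one.2 hq
        have := mul_mem (Subgroup.mem_sup_right (S := iterCommutator Y H c) hdiff) hmem
        rw [inv_mul_cancel_right] at this
        exact this
  have hU₂n : iterCommutator U₂ H (i + j - 1) ≤ V := by
    intro u hu
    have hu' : u ∈ U₂ := iterCommutator_normal_le _ hu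
    refine hUY₀ ⟨hu'.1, mem_centMod.2 fun w hw => ?_⟩
    have h1 := main _ u hu 0 w (Subgroup.mem_sup_left hw)
    rw [show i + j - 1 + 0 - (i - 1) = j by omega] at h1
    have h2 : YL j ≤ Y₀ := sup_le (hZj Y Y₀ hY₀ hYZ) le_rfl
    rw [← commutatorElement_inv]
    exact inv_mem (h2 h1)
  exact iterCommutator_sup_le hU₂U hU₂n

end Cfsg.Agent.KInfinity
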