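/-
The linear core of Glauberman's replacement: a normal class-two subgroup of a group `L` acting unipotently on
its derived subgroup.

Main result: `Cfsg.Agent.KInfinity.derived_centralized`.
-/
import Cfsg.Agent.Lib.KInfinity.Chief

set_option autoImplicit false
open Cfsg
open scoped commutatorElement

namespace Cfsg.Agent.KInfinity

variable {G : Type*} [Group G]

theorem le_centMod_of_normalClosure {U V B : Subgroup G} [U.Normal] [V.Normal]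
    (h : ∀ b ∈ B, ∀ u ∈ U, ⁅u, b⁆ ∈ V) : Subgroup.normalClosure (B : Set G) ≤ centMod U V :=
  haveI := centMod_normal U V
  Subgroup.normalClosure_le_normal fun b hb => mem_centMod.2 (h b hb)

/-- Let `Z` be abelian, `X` normal with `⁅X,X⁆ ≤ Z ⊓ Y₀`, `Y₀` central in `X`, and `X/Y₀` a chief factor.  Let
`L` be the normal closure of `B`, acting nilpotently on `Z`.  If `⁅b, ⁅du, dv⁆⁆ = 1` for `du = ⁅b,u⁆` and `Z` has
odd exponent, then `L` centralizes `⁅X,X⁆`. -/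
theorem derived_centralized [Finite G] {p : ℕ} [Fact p.Prime] (hp : p ≠ 2) {X Y₀ Z L B : Subgroup G}
    [Z.Normal] (hL : L = Subgroup.normalClosure (B : Set G))
    (hZab : ∀ a ∈ Z, ∀ b ∈ Z, a * b = b * a) (hZp : IsPGroup p Z)
    (hZX : ∀ x ∈ X, ∀ z ∈ Z, x * z = z * x)
    (hnil : ∀ N : Subgroup G, N.Normal → N ≤ Z → N ≠ ⊥ → ¬ N ≤ ⁅N, L⁆)
    (hchief : IsChiefFactor X Y₀) (hY₀X : ∀ y ∈ Y₀, ∀ x ∈ X, y * x = x * y)
    (hXX : ⁅X, X⁆ ≤ Z) (hXXY : ⁅X, X⁆ ≤ Y₀)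
    (hd : ∀ b ∈ B, ∀ u ∈ X, ∀ v ∈ X, ⁅b, ⁅⁅b, u⁆, ⁅b, v⁆⁆⁆ = 1) :
    ⁅B, ⁅X, X⁆⁆ = ⊥ := by
  obtain ⟨hY₀lt, hXn, hY₀n, hmax⟩ := hchief
  haveI := hXn
  haveI := hY₀n
  have hLn : L.Normal := hL ▸ Subgroup.normalClosure_normal
  have hBL : B ≤ L := hL ▸ Subgroup.le_normalClosure
  by_contra hne
  set K₀ := ⁅⁅X, X⁆, L⁆ with hK₀def
  set K₁ := ⁅K₀, L⁆ with hK₁def
  haveI : K₀.Normal := by rw [hK₀def]; infer_instance
  haveI : K₁.Normal := by rw [hK₁def]; infer_instance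
  have hK₀Z : K₀ ≤ Z := (Subgroup.commutator_mono hXX le_rfl).trans (Subgroup.commutator_le_left Z L)
  have hK₁ : ¬ K₀ ≤ K₁ := hnil K₀ inferInstance hK₀Z fun e => hne (by
    rw [eq_bot_iff, Subgroup.commutator_comm]
    exact (Subgroup.commutator_mono le_rfl hBL).trans e.le)
  obtain ⟨b, hbB, c₀, hc₀, hc₀b⟩ : ∃ b ∈ B, ∃ c ∈ ⁅X, X⁆, ⁅c, b⁆ ∉ K₁ := by
    by_contra hno
    push Not at hno
    refine hK₁ (Subgroup.commutator_le.2 fun c hc l hl => ?_)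
    exact mem_centMod.1 (le_centMod_of_normalClosure (U := ⁅X, X⁆) (V := K₁) hno (hL ▸ hl)) c hc
  have hbL := hBL hbB
  -- notation
  have fZ : ∀ x ∈ X, ∀ y ∈ X, ⁅x, y⁆ ∈ Z := fun x hx y hy => hXX (Subgroup.commutator_mem_commutator hx hy)
  have fmul : ∀ x ∈ X, ∀ x' ∈ X, ∀ y ∈ X, ⁅x * x', y⁆ = ⁅x, y⁆ * ⁅x', y⁆ := fun x hx x' hx' y hy => by
    rw [commutatorElement_mul_left_eq_conj_mul, hZX x hx _ (fZ x' hx' y hy), mul_inv_cancel_right,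
      hZab _ (fZ x' hx' y hy) _ (fZ x hx y hy)]
  have fmul' : ∀ x ∈ X, ∀ y ∈ X, ∀ y' ∈ X, ⁅x, y * y'⁆ = ⁅x, y⁆ * ⁅x, y'⁆ := fun x hx y hy y' hy' => by
    rw [commutatorElement_mul_right_eq_mul_conj]
    calc ⁅x, y⁆ * y * ⁅x, y'⁆ * y⁻¹ = ⁅x, y⁆ * (y * ⁅x, y'⁆ * y⁻¹) := by group
      _ = ⁅x, y⁆ * ⁅x, y'⁆ := by rw [hZX y hy _ (fZ x hx y' hy'), mul_inv_cancel_right]
  have δZ : ∀ z ∈ Z, ⁅b, z⁆ ∈ Z := fun z hz => by
    rw [commutatorElement_def]; exact mul_mem (Subgroup.Normal.conj_mem inferInstance z hz b) (inv_mem hz)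
  have δmul : ∀ z ∈ Z, ∀ z' ∈ Z, ⁅b, z * z'⁆ = ⁅b, z⁆ * ⁅b, z'⁆ := fun z hz z' hz' => by
    rw [commutatorElement_mul_right_eq_mul_conj]
    calc ⁅b, z⁆ * z * ⁅b, z'⁆ * z⁻¹ = ⁅b, z⁆ * (z * ⁅b, z'⁆ * z⁻¹) := by group
      _ = ⁅b, z⁆ * ⁅b, z'⁆ := by rw [hZab z hz _ (δZ z' hz'), mul_inv_cancel_right]
  have dX : ∀ u ∈ X, ⁅b, u⁆ ∈ X := fun u hu => by
    rw [commutatorElement_def]; exact mul_mem (hXn.conj_mem u hu b) (inv_mem hu)
  have E : ∀ u ∈ X, ∀ v ∈ X, ⁅b, ⁅u, v⁆⁆ = ⁅⁅b, u⁆, v⁆ * ⁅u, ⁅b, v⁆⁆ * ⁅⁅b, u⁆, ⁅b, v⁆⁆ := by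
    intro u hu v hv
    have du := dX u hu
    have dv := dX v hv
    have e1 : b * ⁅u, v⁆ * b⁻¹ = ⁅⁅b, u⁆ * u, ⁅b, v⁆ * v⁆ := by simp [commutatorElement_def, mul_assoc]
    rw [fmul _ du _ hu _ (mul_mem dv hv), fmul' _ du _ dv _ hv, fmul' _ hu _ dv _ hv] at e1
    rw [commutatorElement_def b, e1,
      hZab _ (fZ _ du _ dv) _ (fZ _ du _ hv)]
    rw [mul_assoc (_ * _) (_ * _) _, mul_inv_cancel_right]
    rw [mul_assoc, hZab _ (fZ _ du _ dv) _ (fZ _ hu _ dv), ← mul_assoc]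
  -- the radical
  let R : Subgroup G :=
    { carrier := {x | x ∈ X ∧ ∀ y ∈ X, ⁅b, ⁅x, y⁆⁆ ∈ K₁}
      one_mem' := ⟨one_mem _, fun y _ => by simp⟩
      mul_mem' := fun {a a'} ha ha' => ⟨mul_mem ha.1 ha'.1, fun y hy => by
        rw [fmul a ha.1 a' ha'.1 y hy, δmul _ (fZ _ ha.1 _ hy) _ (fZ _ ha'.1 _ hy)]
        exact mul_mem (ha.2 y hy) (ha'.2 y hy)⟩
      inv_mem' := fun {a} ha => ⟨inv_mem ha.1, fun y hy => by
        have h1 := fmul a ha.1 a⁻¹ (inv_mem ha.1) y hy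
        rw [mul_inv_cancel, commutatorElement_one_left] at h1
        have h2 := congrArg (fun z => ⁅b, z⁆) h1
        rw [commutatorElement_one_right, δmul _ (fZ _ ha.1 _ hy) _ (fZ _ (inv_mem ha.1) _ hy)] at h2
        rw [eq_inv_of_mul_eq_one_right h2.symm]
        exact inv_mem (ha.2 y hy)⟩ }
  have hRX : R ≤ X := fun x hx => hx.1
  have hY₀R : Y₀ ≤ R := fun y hy => ⟨hY₀lt.le hy, fun x hx => by
    rw [commutatorElement_eq_one_iff_mul_comm.2 (hY₀X y hy x hx), commutatorElement_one_right]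
    exact one_mem _⟩
  have hRne : ¬ X ≤ R := by
    intro hle
    refine hc₀b ?_
    rw [← commutatorElement_inv]
    refine inv_mem ?_
    suffices h : ∀ c ∈ ⁅X, X⁆, c ∈ Z ∧ ⁅b, c⁆ ∈ K₁ from (h c₀ hc₀).2
    intro c hc
    rw [Subgroup.commutator_def] at hc
    induction hc using Subgroup.closure_induction with
    | mem z hz => obtain ⟨x, hx, y, hy, rfl⟩ := hz; exact ⟨fZ x hx y hy, (hle hx).2 y hy⟩
    | one => exact ⟨one_mem _, by simp⟩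
    | mul x y _ _ ihx ihy =>
      exact ⟨mul_mem ihx.1 ihy.1, by rw [δmul _ ihx.1 _ ihy.1]; exact mul_mem ihx.2 ihy.2⟩
    | inv x _ ihx =>
      refine ⟨inv_mem ihx.1, ?_⟩
      have h2 := δmul x ihx.1 x⁻¹ (inv_mem ihx.1)
      rw [mul_inv_cancel, commutatorElement_one_right] at h2
      rw [eq_inv_of_mul_eq_one_right h2.symm]
      exact inv_mem ihx.2
  have δK₀ : ∀ k ∈ K₀, ⁅b, k⁆ ∈ K₁ := fun k hk => by
    rw [← commutatorElement_inv]; exact inv_mem (Subgroup.commutator_mem_commutator hk hbL)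
  have hRL : ∀ l ∈ L, ∀ x ∈ R, l * x * l⁻¹ ∈ R := by
    intro l hl x hx
    refine ⟨hXn.conj_mem x hx.1 l, fun y hy => ?_⟩
    have hy' : l⁻¹ * y * l ∈ X := by simpa using hXn.conj_mem y hy l⁻¹
    have hc := fZ x hx.1 _ hy'
    have hk : ⁅⁅x, l⁻¹ * y * l⁆⁻¹, l⁆ ∈ K₀ :=
      Subgroup.commutator_mem_commutator (inv_mem (Subgroup.commutator_mem_commutator hx.1 hy')) hl
    have e : ⁅l * x * l⁻¹, y⁆ = ⁅x, l⁻¹ * y * l⁆ * ⁅⁅x, l⁻¹ * y * l⁆⁻¹, l⁆ := by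
      simp [commutatorElement_def, mul_assoc]
    rw [e, δmul _ hc _ (hK₀Z hk)]
    exact mul_mem (hx.2 _ hy') (δK₀ _ hk)
  -- an `L`-invariant complement of the radical
  let Inv : Subgroup G → Prop := fun W => Y₀ ≤ W ∧ W ≤ X ∧ ∀ l ∈ L, ∀ x ∈ W, l * x * l⁻¹ ∈ W
  have hnorm : ∀ W : Subgroup G, Y₀ ≤ W → X ≤ Subgroup.normalizer (W : Set G) ∨ ¬ W ≤ X := by
    intro W hW
    by_cases hWX : W ≤ X
    · refine Or.inl (Subgroup.le_normalizer_iff_commutator_le_right.2 ?_)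
      exact (Subgroup.commutator_mono le_rfl hWX).trans (hXXY.trans hW)
    · exact Or.inr hWX
  obtain ⟨W, -, hWmax⟩ := Finite.exists_le_maximal (α := Subgroup G)
    (p := fun W => Inv W ∧ W ⊓ R ≤ Y₀) (a := Y₀)
    ⟨⟨le_rfl, hY₀lt.le, fun l _ x hx => hY₀n.conj_mem x hx l⟩, inf_le_left⟩
  obtain ⟨⟨hY₀W, hWX, hWL⟩, hWR⟩ := hWmax.prop
  have hWRX : X ≤ W ⊔ R := by
    by_contra hN
    set N := W ⊔ R
    obtain ⟨W₀, -, hW₀min⟩ := Finite.exists_le_minimal (α := Subgroup G)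
      (p := fun W' => Inv W' ∧ ¬ W' ≤ Y₀) (a := X)
      ⟨⟨hY₀lt.le, le_rfl, fun l _ x hx => hXn.conj_mem x hx l⟩, hY₀lt.not_ge⟩
    obtain ⟨⟨hY₀W₀, hW₀X, hW₀L⟩, hW₀Y⟩ := hW₀min.prop
    obtain ⟨g, hg⟩ : ∃ g : G, ¬ W₀.map (MulAut.conj g).toMonoidHom ≤ N := by
      by_contra hall
      push Not at hall
      have h1 : Subgroup.normalClosure (W₀ : Set G) ≤ N := by
        refine (Subgroup.closure_le _).2 fun z hz => ?_
        obtain ⟨w, hw, hz⟩ := Group.mem_conjugatesOfSet_iff.1 hz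
        obtain ⟨g, rfl⟩ := isConj_iff.1 hz
        exact hall g ⟨w, hw, rfl⟩
      have h2 : Subgroup.normalClosure (W₀ : Set G) ≤ X := Subgroup.normalClosure_le_normal hW₀X
      rcases hmax _ Subgroup.normalClosure_normal (hY₀W₀.trans Subgroup.le_normalClosure) h2 with h | h
      · exact hW₀Y (Subgroup.le_normalClosure.trans h.le)
      · exact hN (h ▸ h1)
    set W₁ := W₀.map (MulAut.conj g).toMonoidHom with hW₁
    have hY₀W₁ : Y₀ ≤ W₁ := fun y hy =>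
      ⟨g⁻¹ * y * g, hY₀W₀ (by simpa using hY₀n.conj_mem y hy g⁻¹), by simp [mul_assoc]⟩
    have hW₁X : W₁ ≤ X := Subgroup.map_le_iff_le_comap.2 fun x hx => hXn.conj_mem x (hW₀X hx) g
    have hW₁L : ∀ l ∈ L, ∀ x ∈ W₁, l * x * l⁻¹ ∈ W₁ := by
      rintro l hl _ ⟨x, hx, rfl⟩
      refine ⟨g⁻¹ * l * g * x * (g⁻¹ * l * g)⁻¹, hW₀L _ (by simpa using hLn.conj_mem l hl g⁻¹) x hx, ?_⟩
      simp [mul_assoc]
    have hNX : N ≤ X := sup_le hWX hRX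
    have hNL : ∀ l ∈ L, ∀ x ∈ N, l * x * l⁻¹ ∈ N := by
      intro l hl x hx
      have : N.map (MulAut.conj l).toMonoidHom ≤ N := by
        rw [Subgroup.map_sup]
        exact sup_le_sup (Subgroup.map_le_iff_le_comap.2 fun z hz => hWL l hl z hz)
          (Subgroup.map_le_iff_le_comap.2 fun z hz => hRL l hl z hz)
      exact this ⟨x, hx, rfl⟩
    have hY₀N : Y₀ ≤ N := hY₀W.trans le_sup_left
    have hint : W₁ ⊓ N ≤ Y₀ := by
      let D := (W₁ ⊓ N).map (MulAut.conj g⁻¹).toMonoidHom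
      have hDW₀ : D ≤ W₀ := by
        rintro _ ⟨_, ⟨⟨w, hw, rfl⟩, -⟩, rfl⟩
        simpa [mul_assoc] using hw
      have hDInv : Inv D := by
        refine ⟨fun y hy => ⟨g * y * g⁻¹, ⟨hY₀W₁ (hY₀n.conj_mem y hy g), hY₀N (hY₀n.conj_mem y hy g)⟩,
          by simp [mul_assoc]⟩, hDW₀.trans hW₀X, ?_⟩
        rintro l hl _ ⟨x, hx, rfl⟩
        have hl' := hLn.conj_mem l hl g
        exact ⟨g * l * g⁻¹ * x * (g * l * g⁻¹)⁻¹, ⟨hW₁L _ hl' x hx.1, hNL _ hl' x hx.2⟩, by simp [mul_assoc]⟩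
      by_contra hcon
      have hDY : ¬ D ≤ Y₀ := fun h => hcon fun x hx => by
        have := hY₀n.conj_mem _ (h ⟨x, hx, rfl⟩) g
        simpa [mul_assoc] using this
      refine hg fun z hz => ?_
      obtain ⟨w, hw, rfl⟩ := hz
      obtain ⟨x, hx, hxw⟩ := hW₀min.2 ⟨hDInv, hDY⟩ hDW₀ hw
      have : g * w * g⁻¹ = x := by rw [← hxw]; simp [mul_assoc]
      show g * w * g⁻¹ ∈ N
      rw [this]; exact hx.2
    have hW₁W : W₁ ≤ Subgroup.normalizer (W : Set G) :=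
      hW₁X.trans ((hnorm W hY₀W).resolve_right (not_not.2 hWX))
    refine hg ?_
    refine le_trans ?_ (le_sup_left : W ≤ N)
    refine le_trans le_sup_right (hWmax.2 ⟨⟨hY₀W.trans le_sup_left, sup_le hWX hW₁X, ?_⟩, ?_⟩
      (le_sup_left : W ≤ W ⊔ W₁))
    · intro l hl x hx
      have : (W ⊔ W₁).map (MulAut.conj l).toMonoidHom ≤ W ⊔ W₁ := by
        rw [Subgroup.map_sup]
        exact sup_le_sup (Subgroup.map_le_iff_le_comap.2 fun z hz => hWL l hl z hz)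
          (Subgroup.map_le_iff_le_comap.2 fun z hz => hW₁L l hl z hz)
      exact this ⟨x, hx, rfl⟩
    · intro x hx
      have hx' : x ∈ ((W ⊔ W₁ : Subgroup G) : Set G) := hx.1
      rw [Subgroup.coe_mul_of_right_le_normalizer_left _ _ hW₁W] at hx'
      obtain ⟨w, hw, w₁, hw₁, rfl⟩ := hx'
      have : w₁ ∈ W₁ ⊓ N := ⟨hw₁, by
        simpa using N.mul_mem (N.inv_mem (Subgroup.mem_sup_left hw)) (Subgroup.mem_sup_right (S := W) hx.2)⟩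
      exact hWR ⟨mul_mem hw (hY₀W (hint this)), hx.2⟩
  -- the computation on `W`
  have hWd : ∀ u ∈ W, ⁅b, u⁆ ∈ W := fun u hu => by
    rw [commutatorElement_def]; exact mul_mem (hWL b hbL u hu) (inv_mem hu)
  have hinv : ∀ u ∈ X, ∀ v ∈ X, ⁅b, ⁅⁅b, u⁆, v⁆⁆ * ⁅b, ⁅u, ⁅b, v⁆⁆⁆ ∈ K₁ := by
    intro u hu v hv
    have h0 : ⁅b, ⁅b, ⁅u, v⁆⁆⁆ ∈ K₁ := δK₀ _ (by
      rw [← commutatorElement_inv]
      exact inv_mem (Subgroup.commutator_mem_commutator (Subgroup.commutator_mem_commutator hu hv) hbL))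
    rw [E u hu v hv, δmul _ (mul_mem (fZ _ (dX u hu) _ hv) (fZ _ hu _ (dX v hv))) _ (fZ _ (dX u hu) _ (dX v hv)),
      hd b hbB u hu v hv, mul_one, δmul _ (fZ _ (dX u hu) _ hv) _ (fZ _ hu _ (dX v hv))] at h0
    exact h0
  have hd2 : ∀ u ∈ X, ⁅b, ⁅b, u⁆⁆ ∈ R := fun u hu => ⟨dX _ (dX u hu), fun v hv => by
    have := hinv _ (dX u hu) v hv
    rwa [hd b hbB u hu v hv, mul_one] at this⟩
  have hcent : ∀ u ∈ W, ∀ x ∈ X, ⁅⁅b, ⁅b, u⁆⁆, x⁆ = 1 := fun u hu x hx =>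
    commutatorElement_eq_one_iff_mul_comm.2 (hY₀X _ (hWR ⟨hWd _ (hWd u hu), hd2 u (hWX hu)⟩) x hx)
  have hcent' : ∀ u ∈ W, ∀ x ∈ X, ⁅x, ⁅b, ⁅b, u⁆⁆⁆ = 1 := fun u hu x hx => by
    rw [← commutatorElement_inv, hcent u hu x hx, inv_one]
  have hkey : ∀ u ∈ W, ∀ v ∈ W, ⁅b, ⁅⁅b, u⁆, v⁆⁆ ∈ K₁ := by
    intro u hu v hv
    have h1 := E _ (dX u (hWX hu)) v (hWX hv)
    rw [hcent u hu v (hWX hv), hcent u hu _ (dX v (hWX hv)), one_mul, mul_one] at h1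
    have h2 := E u (hWX hu) _ (dX v (hWX hv))
    rw [hcent' v hv u (hWX hu), hcent' v hv _ (dX u (hWX hu)), mul_one, mul_one] at h2
    have h3 := hinv u (hWX hu) v (hWX hv)
    rw [h2, ← h1] at h3
    set z := ⁅b, ⁅⁅b, u⁆, v⁆⁆
    have hzp : ∃ k, z ^ p ^ k = 1 := by
      obtain ⟨k, hk⟩ := hZp ⟨z, δZ _ (fZ _ (dX u (hWX hu)) _ (hWX hv))⟩
      exact ⟨k, by simpa using congrArg Subtype.val hk⟩
    obtain ⟨k, hk⟩ := hzp
    obtain ⟨m, hm⟩ : Odd (p ^ k) := ((Fact.out : p.Prime).odd_of_ne_two hp).pow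
    have : z = ((z * z) ^ m)⁻¹ := by
      refine eq_inv_of_mul_eq_one_left ?_
      rw [← pow_two, ← pow_mul, ← pow_succ', ← hm, hk]
    rw [this]
    exact inv_mem (pow_mem h3 m)
  have hduR : ∀ u ∈ W, ⁅b, u⁆ ∈ Y₀ := by
    intro u hu
    refine hWR ⟨hWd u hu, dX u (hWX hu), fun v hv => ?_⟩
    have hv' : v ∈ ((W ⊔ R : Subgroup G) : Set G) := hWRX hv
    rw [Subgroup.coe_mul_of_right_le_normalizer_left W R
      (hRX.trans ((hnorm W hY₀W).resolve_right (not_not.2 hWX)))] at hv'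
    obtain ⟨w, hw, r, hr, rfl⟩ := hv'
    have hdu := dX u (hWX hu)
    rw [fmul' _ hdu w (hWX hw) r hr.1, δmul _ (fZ _ hdu _ (hWX hw)) _ (fZ _ hdu _ hr.1)]
    refine mul_mem (hkey u hu w hw) ?_
    rw [← commutatorElement_inv r ⁅b, u⁆]
    have h2 := δmul _ (fZ _ hr.1 _ hdu) _ (inv_mem (fZ _ hr.1 _ hdu))
    rw [mul_inv_cancel, commutatorElement_one_right] at h2
    rw [eq_inv_of_mul_eq_one_right h2.symm]
    exact inv_mem (hr.2 _ hdu)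
  have hWR' : W ≤ R := by
    intro u hu
    refine ⟨hWX hu, fun v hv => ?_⟩
    have hv' : v ∈ ((W ⊔ R : Subgroup G) : Set G) := hWRX hv
    rw [Subgroup.coe_mul_of_right_le_normalizer_left W R
      (hRX.trans ((hnorm W hY₀W).resolve_right (not_not.2 hWX)))] at hv'
    obtain ⟨w, hw, r, hr, rfl⟩ := hv'
    rw [fmul' _ (hWX hu) w (hWX hw) r hr.1, δmul _ (fZ _ (hWX hu) _ (hWX hw)) _ (fZ _ (hWX hu) _ hr.1)]
    refine mul_mem ?_ ?_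
    · rw [E u (hWX hu) w (hWX hw), commutatorElement_eq_one_iff_mul_comm.2 (hY₀X _ (hduR u hu) w (hWX hw)),
        commutatorElement_eq_one_iff_mul_comm.2 (hY₀X _ (hduR u hu) _ (dX w (hWX hw))),
        commutatorElement_eq_one_iff_mul_comm.2 (hY₀X _ (hduR w hw) u (hWX hu)).symm, one_mul, one_mul]
      exact one_mem _
    · rw [← commutatorElement_inv r u]
      have h2 := δmul _ (fZ _ hr.1 _ (hWX hu)) _ (inv_mem (fZ _ hr.1 _ (hWX hu)))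
      rw [mul_inv_cancel, commutatorElement_one_right] at h2
      rw [eq_inv_of_mul_eq_one_right h2.symm]
      exact inv_mem (hr.2 _ (hWX hu))
  exact hRne (hWRX.trans (sup_le hWR' le_rfl))

end Cfsg.Agent.KInfinity
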