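/-
Glauberman's replacement: if a K-infinity subgroup of a Sylow subgroup is not normal, then an element of the
Sylow subgroup outside `O_p` acts quadratically and nontrivially on a chief factor inside a prescribed class two
normal subgroup.

Main results (namespace `Cfsg.Agent.KInfinity`): `quad_of_forall`, `stab_le_pCore`, `witness_or_normal`,
`exists_cubic_element`, `le_centralizer_of_minimal`, `not_pStable_quotient`;
`witness_or_normal_of_le`, `exists_cubic_element_of_le` (any subgroup containing `O_p` in place of a Sylow subgroup).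
-/
import Cfsg.Agent.Lib.KInfinity.Quadratic
import Cfsg.Agent.Lib.KInfinity.Functor
import Cfsg.Agent.Lib.KInfinity.Lift

set_option autoImplicit false
open Cfsg
open scoped commutatorElement

namespace Cfsg.Agent.KInfinity

universe u

variable {G : Type u} [Group G] {p : ℕ}

theorem quad_of_forall {U V : Subgroup G} [V.Normal] {b : G} (h : ∀ u ∈ U, ⁅⁅u, b⁆, b⁆ ∈ V) :
    ⁅⁅U, Subgroup.zpowers b⁆, Subgroup.zpowers b⁆ ≤ V := by
  have key : ⁅U, Subgroup.zpowers b⁆ ≤ centMod (Subgroup.zpowers b) V := by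
    refine Subgroup.commutator_le.2 fun u hu x hx => mem_centMod.2 fun y hy => ?_
    obtain ⟨k, rfl⟩ := hx
    obtain ⟨j, rfl⟩ := hy
    let q := QuotientGroup.mk' V
    have h1 : Commute (q ⁅u, b⁆) (q b) := by
      rw [← commutatorElement_eq_one_iff_commute, ← map_commutatorElement]
      exact (QuotientGroup.eq_one_iff _).2 (h u hu)
    have h2 : q u * q b ^ k * (q u)⁻¹ = q ⁅u, b⁆ ^ k * q b ^ k := by
      rw [← h1.mul_zpow, ← conj_zpow, ← map_inv, ← map_mul, ← map_mul, ← map_mul]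
      congr 2
      simp [commutatorElement_def, mul_assoc]
    have h3 : q ⁅u, b ^ k⁆ = q ⁅u, b⁆ ^ k := by
      rw [map_commutatorElement, map_zpow, commutatorElement_def, h2, mul_inv_cancel_right]
    rw [← QuotientGroup.eq_one_iff, ← QuotientGroup.mk'_apply, map_commutatorElement, map_zpow, h3,
      commutatorElement_eq_one_iff_commute]
    exact (h1.zpow_zpow k j).symm
  refine Subgroup.commutator_le.2 fun x hx y hy => ?_
  rw [← commutatorElement_inv]
  exact inv_mem (mem_centMod.1 (key hx) y hy)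

theorem quad_of_le_centralizer {A B W : Subgroup G} {g : G} (h : ⁅A, B⁆ ≤ Subgroup.centralizer (W : Set G))
    (hgB : g ∈ B) (hgW : g ∈ W) : ⁅⁅A, Subgroup.zpowers g⁆, Subgroup.zpowers g⁆ = ⊥ :=
  Subgroup.commutator_eq_bot_iff_le_centralizer.2
    (((Subgroup.commutator_mono le_rfl (Subgroup.zpowers_le.2 hgB)).trans h).trans
      (Subgroup.centralizer_le (Subgroup.zpowers_le.2 hgW)))

section Main

variable [Finite G] [Fact p.Prime]

/-- The hypothesis on automorphisms of `T` makes the stabilizer of the chief factors below `A` a `p`-group. -/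
theorem stab_le_pCore {A : Subgroup G} (hAn : A.Normal) (hAT : A ≤ Cfsg.pCore p G)
    (hA5 : ∀ φ : MulAut ↥(Cfsg.pCore p G), (orderOf φ).Coprime p →
      (∀ a : ↥(Cfsg.pCore p G), (a : G) ∈ A → φ a = a) → φ = 1)
    (hC : Subgroup.centralizer ((Cfsg.pCore p G : Subgroup G) : Set G) ≤ Cfsg.pCore p G)
    {N : Subgroup G} (hN : N.Normal) (h : ∀ m ∈ N, (orderOf m).Coprime p → ∀ x ∈ A, Commute x m) :
    N ≤ Cfsg.pCore p G := by
  haveI := hN
  have hT := Cores.isPGroup_pCore p G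
  have h1 : ∀ m ∈ N, (orderOf m).Coprime p → m = 1 := by
    intro m hm hmp
    have hφ : MulAut.conjNormal (H := Cfsg.pCore p G) m = 1 := by
      refine hA5 _ (hmp.coprime_dvd_left (orderOf_map_dvd _ m)) fun a ha => Subtype.ext ?_
      rw [MulAut.conjNormal_apply, ← (h m hm hmp (a : G) ha).eq, mul_inv_cancel_right]
    have hmC : m ∈ Subgroup.centralizer ((Cfsg.pCore p G : Subgroup G) : Set G) := by
      refine Subgroup.mem_centralizer_iff.2 fun x hx => ?_
      have e := congrArg Subtype.val (DFunLike.congr_fun hφ ⟨x, hx⟩)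
      rw [MulAut.conjNormal_apply] at e
      exact (mul_inv_eq_iff_eq_mul.1 e).symm
    obtain ⟨k, hk⟩ := hT ⟨m, hC hmC⟩
    have hk' : m ^ p ^ k = 1 := by simpa using congrArg Subtype.val hk
    exact orderOf_eq_one_iff.1
      (Nat.eq_one_of_dvd_coprimes (hmp.pow_right k) dvd_rfl (orderOf_dvd_of_pow_eq_one hk'))
  exact Cores.le_pCore hN (CharP.isPGroup_of_coprime_eq_one h1)

/-- Either both K-infinity subgroups are normal, or one of three kinds of witness exists. -/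
theorem witness_or_normal_of_le (S : Subgroup G) (hTS₀ : Cfsg.pCore p G ≤ S) (A : Subgroup G) [A.Normal] (hAT : A ≤ Cfsg.pCore p G)
    (hA2 : ⁅A, A⁆ ≤ Subgroup.centralizer (A : Set G))
    (hA3 : ⁅Cfsg.pCore p G, A⁆ ≤ A ⊓ Subgroup.centralizer (A : Set G)) :
    ((Cfsg.inducedFunctor Cfsg.kInfLower (S : Subgroup G)).Normal ∧
      (Cfsg.inducedFunctor Cfsg.kInfUpper (S : Subgroup G)).Normal) ∨
    ∃ B : Subgroup G, B ≤ (S : Subgroup G) ∧ ¬ B ≤ Cfsg.pCore p G ∧
      ⁅B, B⁆ ≤ Subgroup.centralizer (B : Set G) ∧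
      (⁅B, A⁆ ≤ B ⊓ Subgroup.centralizer (B : Set G) ∨
        (A ≤ Subgroup.normalizer (B : Set G) ∧ ⁅A, ⁅B, B⁆⁆ = ⊥ ∧
          ⁅⁅A ⊓ Subgroup.centralizer (A : Set G), B⁆, B⁆ = ⊥) ∨
        (A ≤ Subgroup.normalizer (B : Set G) ∧ ∀ X : Subgroup G, X ≤ A → X ∈ classTwoSubgroups G →
          B ≤ Subgroup.normalizer (X : Set G) → ⁅B, ⁅X, X⁆⁆ = ⊥ →
          ⁅⁅B ⊓ Subgroup.centralizer (B : Set G), X⁆, X⁆ = ⊥ →
          ⁅B, X⁆ ≤ B ⊓ Subgroup.centralizer (B : Set G))) := by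
  by_cases hw : ∃ B : Subgroup G, B ≤ (S : Subgroup G) ∧ ¬ B ≤ Cfsg.pCore p G ∧
      ⁅B, B⁆ ≤ Subgroup.centralizer (B : Set G) ∧
      (⁅B, A⁆ ≤ B ⊓ Subgroup.centralizer (B : Set G) ∨
        (A ≤ Subgroup.normalizer (B : Set G) ∧ ⁅A, ⁅B, B⁆⁆ = ⊥ ∧
          ⁅⁅A ⊓ Subgroup.centralizer (A : Set G), B⁆, B⁆ = ⊥) ∨
        (A ≤ Subgroup.normalizer (B : Set G) ∧ ∀ X : Subgroup G, X ≤ A → X ∈ classTwoSubgroups G →
          B ≤ Subgroup.normalizer (X : Set G) → ⁅B, ⁅X, X⁆⁆ = ⊥ →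
          ⁅⁅B ⊓ Subgroup.centralizer (B : Set G), X⁆, X⁆ = ⊥ →
          ⁅B, X⁆ ≤ B ⊓ Subgroup.centralizer (B : Set G)))
  · exact Or.inr hw
  left
  push Not at hw
  set T := Cfsg.pCore p G with hTdef
  have hTS : T ≤ (S : Subgroup G) := hTS₀
  set σ := (S : Subgroup G).subtype with hσ
  have eA : (A.subgroupOf (S : Subgroup G)).map σ = A := Subgroup.map_subgroupOf_eq_of_le (hAT.trans hTS)
  have main : ∀ n, A.subgroupOf (S : Subgroup G) ≤ kSeqOdd ↥(S : Subgroup G) n →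
      (kSeqEven ↥(S : Subgroup G) n).map σ ≤ T ∧
      (kSeqOdd ↥(S : Subgroup G) (n + 1)).map σ ≤ T ∧
      A.subgroupOf (S : Subgroup G) ≤ kSeqOdd ↥(S : Subgroup G) (n + 1) := by
    intro n hn
    set R := kSeqOdd ↥(S : Subgroup G) n with hR
    have hAR : A ≤ R.map σ := eA.symm.le.trans (Subgroup.map_mono hn)
    have heven : (kSeqEven ↥(S : Subgroup G) n).map σ ≤ T := by
      refine Subgroup.map_le_iff_le_comap.2 (sSup_le fun B hB => Subgroup.map_le_iff_le_comap.1 ?_)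
      have hB' := (map_mem_lower_iff B R).2 hB
      by_contra hBT
      obtain ⟨-, -, h3⟩ := hw _ (Subgroup.map_subtype_le B) hBT hB'.1
      obtain ⟨X, hXA, hX2, hBX, h1, h2, h4⟩ := h3 (hAR.trans hB'.2.1)
      exact h4 (hB'.2.2 X hX2 (hXA.trans hAR) hBX h1 h2)
    have hAeven : A.subgroupOf (S : Subgroup G) ≤ kSeqEven ↥(S : Subgroup G) n := by
      refine le_sSup ((map_mem_lower_iff _ R).1 ?_)
      rw [eA]
      refine ⟨hA2, Subgroup.le_normalizer_of_normal, fun C hC2 hCR hAC h1 h2 => ?_⟩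
      by_cases hCT : C ≤ T
      · rw [Subgroup.commutator_comm]
        exact (Subgroup.commutator_mono hCT le_rfl).trans hA3
      · obtain ⟨-, h, -⟩ := hw C (hCR.trans (Subgroup.map_subtype_le R)) hCT hC2
        exact absurd h2 (h hAC h1)
    refine ⟨heven, ?_, ?_⟩
    · rw [kSeqOdd_succ]
      refine Subgroup.map_le_iff_le_comap.2 (sSup_le fun B hB => Subgroup.map_le_iff_le_comap.1 ?_)
      have hB' := (map_mem_upper_iff B (kSeqEven ↥(S : Subgroup G) n)).2 hB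
      by_contra hBT
      obtain ⟨h1, -⟩ := hw _ (Subgroup.map_subtype_le B) hBT hB'.1
      exact h1 ((Subgroup.commutator_mono le_rfl (eA.symm.le.trans (Subgroup.map_mono hAeven))).trans hB'.2)
    · rw [kSeqOdd_succ]
      refine le_sSup ((map_mem_upper_iff _ _).1 ?_)
      rw [eA]
      refine ⟨hA2, ?_⟩
      rw [Subgroup.commutator_comm]
      exact (Subgroup.commutator_mono heven le_rfl).trans hA3
  have hAodd : ∀ n, A.subgroupOf (S : Subgroup G) ≤ kSeqOdd ↥(S : Subgroup G) n := by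
    intro n
    induction n with
    | zero => exact le_top
    | succ n ih => exact (main n ih).2.2
  have hQ : ∀ n : ℕ, kSeqEven ↥(S : Subgroup G) n ≤ T.subgroupOf (S : Subgroup G) ∧
      kSeqOdd ↥(S : Subgroup G) (n + 1) ≤ T.subgroupOf (S : Subgroup G) := fun n =>
    ⟨Subgroup.map_le_iff_le_comap.1 (main n (hAodd n)).1, Subgroup.map_le_iff_le_comap.1 (main n (hAodd n)).2.1⟩
  obtain ⟨e1, e2⟩ := map_kInf_eq hQ
  have hcomp : σ.comp (T.subgroupOf (S : Subgroup G)).subtype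
      = T.subtype.comp (Subgroup.subgroupOfEquivOfLe hTS).toMonoidHom := rfl
  constructor
  · show ((kInfLower ↥(S : Subgroup G)).map σ).Normal
    rw [← e1, Subgroup.map_map, hcomp, ← Subgroup.map_map, map_kInfLower]
    exact Cores.map_subtype_normal_of_characteristic T _
  · show ((kInfUpper ↥(S : Subgroup G)).map σ).Normal
    rw [← e2, Subgroup.map_map, hcomp, ← Subgroup.map_map, map_kInfUpper]
    exact Cores.map_subtype_normal_of_characteristic T _

theorem witness_or_normal (S : Sylow p G) (A : Subgroup G) [A.Normal] (hAT : A ≤ Cfsg.pCore p G)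
    (hA2 : ⁅A, A⁆ ≤ Subgroup.centralizer (A : Set G))
    (hA3 : ⁅Cfsg.pCore p G, A⁆ ≤ A ⊓ Subgroup.centralizer (A : Set G)) :
    ((Cfsg.inducedFunctor Cfsg.kInfLower (S : Subgroup G)).Normal ∧
      (Cfsg.inducedFunctor Cfsg.kInfUpper (S : Subgroup G)).Normal) ∨
    ∃ B : Subgroup G, B ≤ (S : Subgroup G) ∧ ¬ B ≤ Cfsg.pCore p G ∧
      ⁅B, B⁆ ≤ Subgroup.centralizer (B : Set G) ∧
      (⁅B, A⁆ ≤ B ⊓ Subgroup.centralizer (B : Set G) ∨
        (A ≤ Subgroup.normalizer (B : Set G) ∧ ⁅A, ⁅B, B⁆⁆ = ⊥ ∧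
          ⁅⁅A ⊓ Subgroup.centralizer (A : Set G), B⁆, B⁆ = ⊥) ∨
        (A ≤ Subgroup.normalizer (B : Set G) ∧ ∀ X : Subgroup G, X ≤ A → X ∈ classTwoSubgroups G →
          B ≤ Subgroup.normalizer (X : Set G) → ⁅B, ⁅X, X⁆⁆ = ⊥ →
          ⁅⁅B ⊓ Subgroup.centralizer (B : Set G), X⁆, X⁆ = ⊥ →
          ⁅B, X⁆ ≤ B ⊓ Subgroup.centralizer (B : Set G))) :=
  witness_or_normal_of_le (S : Subgroup G) (Cores.pCore_le_sylow S) A hAT hA2 hA3

/-- The replacement theorem for a class two normal subgroup `A` of `T = O_p(G)`. -/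
theorem exists_cubic_element_of_le (S : Subgroup G) (hTS₀ : Cfsg.pCore p G ≤ S) (A : Subgroup G) [hAn : A.Normal] (hAT : A ≤ Cfsg.pCore p G)
    (hA1 : ∀ a ∈ A, a ^ p ∈ A ⊓ Subgroup.centralizer (A : Set G))
    (hA2 : ⁅A, A⁆ ≤ Subgroup.centralizer (A : Set G))
    (hA3 : ⁅Cfsg.pCore p G, A⁆ ≤ A ⊓ Subgroup.centralizer (A : Set G))
    (hA5 : ∀ φ : MulAut ↥(Cfsg.pCore p G), (orderOf φ).Coprime p →
      (∀ a : ↥(Cfsg.pCore p G), (a : G) ∈ A → φ a = a) → φ = 1)
    (hK : ¬ (Cfsg.inducedFunctor Cfsg.kInfLower (S : Subgroup G)).Normal ∨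
      ¬ (Cfsg.inducedFunctor Cfsg.kInfUpper (S : Subgroup G)).Normal) :
    ∃ g : G, g ∈ (S : Subgroup G) ∧ g ∉ Cfsg.pCore p G ∧
      iterCommutator A (Subgroup.zpowers g) 3 ≤ A ⊓ Subgroup.centralizer (A : Set G) ∧
      ⁅⁅A ⊓ Subgroup.centralizer (A : Set G), Subgroup.zpowers g⁆, Subgroup.zpowers g⁆ = ⊥ ∧
      (Subgroup.centralizer ((Cfsg.pCore p G : Subgroup G) : Set G) ≤ Cfsg.pCore p G →
        ∃ U V : Subgroup G, IsChiefFactor U V ∧ U ≤ A ∧
          ⁅⁅U, Subgroup.zpowers g⁆, Subgroup.zpowers g⁆ ≤ V ∧ ¬ ⁅U, Subgroup.zpowers g⁆ ≤ V) := by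
  set T := Cfsg.pCore p G with hTdef
  set Z := A ⊓ Subgroup.centralizer (A : Set G) with hZdef
  haveI hZn : Z.Normal := by rw [hZdef]; infer_instance
  have hTp : IsPGroup p T := Cores.isPGroup_pCore p G
  have hZA : Z ≤ A := inf_le_left
  obtain ⟨B, hBS, hBT, hB2, hB⟩ := (witness_or_normal_of_le S hTS₀ A hAT hA2 hA3).resolve_left fun h =>
    hK.elim (fun h1 => h1 h.1) (fun h1 => h1 h.2)
  obtain ⟨b₀, hb₀B, hb₀T⟩ := SetLike.not_le_iff_exists.1 hBT
  -- elements moving a factor lie outside `T`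
  have hnotT : ∀ U V : Subgroup G, IsChiefFactor U V → U ≤ A → ∀ g : G,
      ¬ ⁅U, Subgroup.zpowers g⁆ ≤ V → g ∉ T := fun U V h hU g hg hgT =>
    hg ((Subgroup.commutator_mono le_rfl (Subgroup.zpowers_le.2 hgT)).trans
      (commutator_le_of_chief h (hTp.to_le (hU.trans hAT)) hTp))
  -- some chief factor below `A` is moved
  have hmove : Subgroup.centralizer ((T : Subgroup G) : Set G) ≤ T → ∀ b : G, b ∉ T →
      ∃ U V : Subgroup G, IsChiefFactor U V ∧ U ≤ A ∧ ¬ ⁅U, Subgroup.zpowers b⁆ ≤ V := by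
    intro hC b hb
    by_contra hno
    push Not at hno
    refine hb (stab_le_pCore hAn hAT hA5 hC (stab_normal A)
      (fun m hm hmp x hx => commute_of_mem_stab (hTp.to_le hAT) hmp A hAn le_rfl hm x hx) ?_)
    exact mem_stab.2 fun U V hUV hU u hu =>
      hno U V hUV hU (Subgroup.commutator_mem_commutator hu (Subgroup.mem_zpowers b))
  have hmono : ∀ {A' : Subgroup G} (g : G), g ∈ B →
      ⁅⁅A', Subgroup.zpowers g⁆, Subgroup.zpowers g⁆ ≤ ⁅⁅A', B⁆, B⁆ := fun g hg =>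
    Subgroup.commutator_mono (Subgroup.commutator_mono le_rfl (Subgroup.zpowers_le.2 hg))
      (Subgroup.zpowers_le.2 hg)
  rcases hB with hU | ⟨hAB, hL1, hL2⟩ | ⟨hAB, hL⟩
  · -- `⁅B, A⁆ ≤ Z(B)`
    have h2 : ⁅⁅A, B⁆, B⁆ = ⊥ := Subgroup.commutator_eq_bot_iff_le_centralizer.2
      ((Subgroup.commutator_comm A B).le.trans (hU.trans inf_le_right))
    have h2' : ⁅⁅A, Subgroup.zpowers b₀⁆, Subgroup.zpowers b₀⁆ = ⊥ :=
      le_bot_iff.1 ((hmono b₀ hb₀B).trans h2.le)
    refine ⟨b₀, hBS hb₀B, hb₀T, ?_, le_bot_iff.1 ?_, fun hC => ?_⟩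
    · show ⁅⁅⁅A, Subgroup.zpowers b₀⁆, Subgroup.zpowers b₀⁆, Subgroup.zpowers b₀⁆ ≤ Z
      rw [h2', Subgroup.commutator_bot_left]
      exact bot_le
    · exact (Subgroup.commutator_mono (Subgroup.commutator_mono hZA le_rfl) le_rfl).trans h2'.le
    · obtain ⟨U, V, hUV, hUA, hne⟩ := hmove hC b₀ hb₀T
      exact ⟨U, V, hUV, hUA,
        ((Subgroup.commutator_mono (Subgroup.commutator_mono hUA le_rfl) le_rfl).trans h2'.le).trans bot_le, hne⟩
  · -- the failure of `A` to lie in the lower family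
    have h1 : ⁅A, B⁆ ≤ A ⊓ B := le_inf (Subgroup.commutator_le_left A B)
      (Subgroup.le_normalizer_iff_commutator_le_right.1 hAB)
    have h2 : ⁅⁅A, B⁆, B⁆ ≤ Z := le_inf
      ((Subgroup.commutator_mono (h1.trans inf_le_left) le_rfl).trans (Subgroup.commutator_le_left A B))
      ((Subgroup.commutator_mono (h1.trans inf_le_right) le_rfl).trans
        (Subgroup.commutator_eq_bot_iff_le_centralizer.1 ((Subgroup.commutator_comm _ _).trans hL1)))
    have hA2' := (hmono (A' := A) b₀ hb₀B).trans h2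
    have hZ2 : ⁅⁅Z, Subgroup.zpowers b₀⁆, Subgroup.zpowers b₀⁆ = ⊥ :=
      le_bot_iff.1 ((hmono b₀ hb₀B).trans hL2.le)
    refine ⟨b₀, hBS hb₀B, hb₀T, ?_, hZ2, fun hC => ?_⟩
    · show ⁅⁅⁅A, Subgroup.zpowers b₀⁆, Subgroup.zpowers b₀⁆, Subgroup.zpowers b₀⁆ ≤ Z
      exact (Subgroup.commutator_mono hA2' le_rfl).trans (Subgroup.commutator_le_left Z _)
    · obtain ⟨U, V, hUV, hUA, hne⟩ := hmove hC b₀ hb₀T
      refine ⟨U, V, hUV, hUA, ?_, hne⟩
      haveI := hUV.2.1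
      haveI := hUV.2.2.1
      by_cases hUZ : U ⊓ Z ≤ V
      · refine le_trans (le_inf ?_ ((Subgroup.commutator_mono (Subgroup.commutator_mono hUA le_rfl)
          le_rfl).trans hA2')) hUZ
        exact (Subgroup.commutator_mono (Subgroup.commutator_le_left U _) le_rfl).trans
          (Subgroup.commutator_le_left U _)
      · have hsup : U ≤ (U ⊓ Z) ⊔ V := by
          rcases hUV.2.2.2 ((U ⊓ Z) ⊔ V) inferInstance le_sup_right (sup_le inf_le_left hUV.1.le) with h | h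
          · exact absurd (h ▸ le_sup_left) hUZ
          · exact h.ge
        exact iterCommutator_sup_le (n := 2) hsup
          (((Subgroup.commutator_mono (Subgroup.commutator_mono inf_le_right le_rfl) le_rfl).trans
            hZ2.le).trans bot_le)
  -- the principal case
  set ZB := B ⊓ Subgroup.centralizer (B : Set G) with hZBdef
  have hAB' : ⁅A, B⁆ ≤ B := Subgroup.le_normalizer_iff_commutator_le_right.1 hAB
  have hB3 : ⁅⁅⁅A, B⁆, B⁆, B⁆ = ⊥ := Subgroup.commutator_eq_bot_iff_le_centralizer.2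
    ((Subgroup.commutator_mono hAB' le_rfl).trans hB2)
  have hBZ : ⁅⁅Z, B⁆, B⁆ = ⊥ := by
    refine Subgroup.commutator_eq_bot_iff_le_centralizer.2 ?_
    rw [Subgroup.commutator_comm]
    have hZc : Z ≤ Subgroup.centralizer (Z : Set G) := fun z hz =>
      Subgroup.centralizer_le hZA hz.2
    have hZZ : ⁅Z, Z⁆ = ⊥ := Subgroup.commutator_eq_bot_iff_le_centralizer.2 hZc
    refine (hL Z hZA ?_ Subgroup.le_normalizer_of_normal ?_ ?_).trans inf_le_right
    · show ⁅Z, Z⁆ ≤ _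
      rw [hZZ]; exact bot_le
    · rw [hZZ, Subgroup.commutator_bot_right]
    · exact le_bot_iff.1 ((Subgroup.commutator_mono (Subgroup.commutator_le_right ZB Z) le_rfl).trans hZZ.le)
  have hfacts : ∀ g ∈ B, iterCommutator A (Subgroup.zpowers g) 3 ≤ Z ∧
      ⁅⁅Z, Subgroup.zpowers g⁆, Subgroup.zpowers g⁆ = ⊥ := fun g hg =>
    ⟨((Subgroup.commutator_mono (hmono g hg) (Subgroup.zpowers_le.2 hg)).trans hB3.le).trans bot_le,
      le_bot_iff.1 ((hmono g hg).trans hBZ.le)⟩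
  suffices h : Subgroup.centralizer ((T : Subgroup G) : Set G) ≤ T → ∃ g ∈ B, ∃ U V : Subgroup G,
      IsChiefFactor U V ∧ U ≤ A ∧
        ⁅⁅U, Subgroup.zpowers g⁆, Subgroup.zpowers g⁆ ≤ V ∧ ¬ ⁅U, Subgroup.zpowers g⁆ ≤ V by
    by_cases hC : Subgroup.centralizer ((T : Subgroup G) : Set G) ≤ T
    · obtain ⟨g, hgB, U, V, hUV, hUA, hq, hne⟩ := h hC
      exact ⟨g, hBS hgB, hnotT U V hUV hUA g hne, (hfacts g hgB).1, (hfacts g hgB).2,
        fun _ => ⟨U, V, hUV, hUA, hq, hne⟩⟩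
    · exact ⟨b₀, hBS hb₀B, hb₀T, (hfacts _ hb₀B).1, (hfacts _ hb₀B).2, fun h' => absurd h' hC⟩
  intro hC
  by_cases hZBT : ZB ≤ T
  swap
  · obtain ⟨z, hz, hzT⟩ := SetLike.not_le_iff_exists.1 hZBT
    obtain ⟨U, V, hUV, hUA, hne⟩ := hmove hC z hzT
    refine ⟨z, hz.1, U, V, hUV, hUA, ?_, hne⟩
    have hq : ⁅⁅A, Subgroup.zpowers z⁆, Subgroup.zpowers z⁆ = ⊥ := by
      rw [Subgroup.commutator_eq_bot_iff_le_centralizer]
      intro x hx
      refine Subgroup.mem_centralizer_iff.2 fun y hy => ?_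
      have hyZ : y ∈ ZB := Subgroup.zpowers_le.2 hz hy
      exact (Subgroup.mem_centralizer_iff.1 hyZ.2 x
        (hAB' (Subgroup.commutator_mono le_rfl (Subgroup.zpowers_le.2 hz.1) hx))).symm
    exact ((Subgroup.commutator_mono (Subgroup.commutator_mono hUA le_rfl) le_rfl).trans hq.le).trans bot_le
  by_cases hZmove : ∃ b ∈ B, ∃ U V : Subgroup G, IsChiefFactor U V ∧ U ≤ Z ∧ ¬ ⁅U, Subgroup.zpowers b⁆ ≤ V
  · obtain ⟨b, hb, U, V, hUV, hUZ, hne⟩ := hZmove
    exact ⟨b, hb, U, V, hUV, hUZ.trans hZA,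
      ((Subgroup.commutator_mono (Subgroup.commutator_mono hUZ le_rfl) le_rfl).trans (hfacts b hb).2.le).trans
        bot_le, hne⟩
  push Not at hZmove
  haveI := stab_normal Z
  have hBstab : B ≤ stab Z := fun b hb => mem_stab.2 fun U V hUV hU u hu =>
    hZmove b hb U V hUV hU (Subgroup.commutator_mem_commutator hu (Subgroup.mem_zpowers b))
  rcases eq_or_ne p 2 with hp2 | hp2
  · -- the prime two
    obtain ⟨U, V, hUV, hUA, hne⟩ := hmove hC b₀ hb₀T
    by_cases hq : ∀ u ∈ U, ⁅⁅u, b₀⁆, b₀⁆ ∈ V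
    · haveI := hUV.2.2.1
      exact ⟨b₀, hb₀B, U, V, hUV, hUA, quad_of_forall hq, hne⟩
    push Not at hq
    obtain ⟨u₀, hu₀, hu₀V⟩ := hq
    haveI := hUV.2.1
    haveI := hUV.2.2.1
    have hUZ : U ⊓ Z ≤ V := by
      by_contra hcon
      have hsup : U ≤ (U ⊓ Z) ⊔ V := by
        rcases hUV.2.2.2 ((U ⊓ Z) ⊔ V) inferInstance le_sup_right (sup_le inf_le_left hUV.1.le) with h | h
        · exact absurd (h ▸ le_sup_left) hcon
        · exact h.ge
      exact hne (iterCommutator_sup_le (n := 1) hsup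
        ((hZmove b₀ hb₀B _ _ (chief_inf hUV hsup) inf_le_right).trans inf_le_left))
    have hUU : ∀ x ∈ U, ∀ y ∈ U, ⁅x, y⁆ ∈ V := fun x hx y hy => by
      refine hUZ ⟨Subgroup.commutator_le_left U U (Subgroup.commutator_mem_commutator hx hy), ?_, ?_⟩
      · exact Subgroup.commutator_le_left A A (Subgroup.commutator_mem_commutator (hUA hx) (hUA hy))
      · exact hA2 (Subgroup.commutator_mem_commutator (hUA hx) (hUA hy))
    have hsq : ∀ x ∈ U, x * x ∈ V := fun x hx => by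
      refine hUZ ⟨mul_mem hx hx, ?_⟩
      have := hA1 x (hUA hx)
      rwa [hp2, pow_two] at this
    have hUd : ∀ x ∈ U, ∀ g : G, ⁅x, g⁆ ∈ U := fun x hx g =>
      Subgroup.commutator_le_left U ⊤ (Subgroup.commutator_mem_commutator hx (Subgroup.mem_top g))
    let q := QuotientGroup.mk' V
    have key : ∀ u ∈ U, q ⁅u, b₀ * b₀⁆ = (q ⁅⁅u, b₀⁆, b₀⁆)⁻¹ := by
      intro u hu
      set c₁ := ⁅u, b₀⁆ with hc₁
      have hc₁U : c₁ ∈ U := hUd u hu b₀
      have e : ⁅u, b₀ * b₀⁆ = c₁ * (⁅c₁, b₀⁆⁻¹ * c₁) := by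
        simp [hc₁, commutatorElement_def, mul_assoc]
      have hcomm : Commute (q c₁) (q ⁅c₁, b₀⁆⁻¹) := by
        rw [← commutatorElement_eq_one_iff_commute, ← map_commutatorElement]
        exact (QuotientGroup.eq_one_iff _).2 (hUU _ hc₁U _ (inv_mem (hUd _ hc₁U b₀)))
      rw [e, map_mul, map_mul, ← mul_assoc, hcomm.eq, mul_assoc, ← map_mul q c₁ c₁,
        show q (c₁ * c₁) = 1 from (QuotientGroup.eq_one_iff _).2 (hsq _ hc₁U), mul_one, map_inv]
    refine ⟨b₀ * b₀, mul_mem hb₀B hb₀B, U, V, hUV, hUA, quad_of_forall fun u hu => ?_, fun hle => hu₀V ?_⟩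
    · have h3 : Commute (q ⁅⁅u, b₀⁆, b₀⁆) (q b₀) := by
        rw [← commutatorElement_eq_one_iff_commute, ← map_commutatorElement, QuotientGroup.mk'_apply,
          QuotientGroup.eq_one_iff]
        have : ⁅⁅⁅u, b₀⁆, b₀⁆, b₀⁆ ∈ (⊥ : Subgroup G) := hB3 ▸
          Subgroup.commutator_mem_commutator (Subgroup.commutator_mem_commutator
            (Subgroup.commutator_mem_commutator (hUA hu) hb₀B) hb₀B) hb₀B
        rw [Subgroup.mem_bot.1 this]
        exact one_mem V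
      rw [← QuotientGroup.eq_one_iff, ← QuotientGroup.mk'_apply, map_commutatorElement, key u hu, map_mul,
        commutatorElement_eq_one_iff_commute]
      exact (h3.mul_right h3).inv_left
    · have h1 := key u₀ hu₀
      rw [show q ⁅u₀, b₀ * b₀⁆ = 1 from (QuotientGroup.eq_one_iff _).2
        (hle (Subgroup.commutator_mem_commutator hu₀ (Subgroup.mem_zpowers _)))] at h1
      exact (QuotientGroup.eq_one_iff _).1 (inv_eq_one.1 h1.symm)
  -- odd primes
  set L := Subgroup.normalClosure (B : Set G) with hLdef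
  have hLn : L.Normal := Subgroup.normalClosure_normal
  have hBL : B ≤ L := Subgroup.le_normalClosure
  have hLstab : L ≤ stab Z := Subgroup.normalClosure_le_normal hBstab
  obtain ⟨X, -, hXmin⟩ := Finite.exists_le_minimal (α := Subgroup G)
    (p := fun X => X.Normal ∧ X ≤ A ∧ ∃ m ∈ L, (orderOf m).Coprime p ∧ ∃ x ∈ X, ¬ Commute x m) (a := A)
    ⟨hAn, le_rfl, by
      by_contra hno
      push Not at hno
      exact hBT (hBL.trans (stab_le_pCore hAn hAT hA5 hC hLn hno))⟩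
  obtain ⟨hXn, hXA, m, hmL, hmp, x₀, hx₀, hx₀m⟩ := hXmin.prop
  haveI := hXn
  have hmin : ∀ N : Subgroup G, N.Normal → N ≤ X → N ≠ X →
      ∀ m' ∈ L, (orderOf m').Coprime p → ∀ x ∈ N, Commute x m' := by
    intro N hN hle hne m' hm' hm'p x hx
    by_contra hcon
    exact hne (le_antisymm hle (hXmin.2 ⟨hN, hle.trans hXA, m', hm', hm'p, x, hx, hcon⟩ hle))
  have hXZ : ¬ X ≤ Z := fun hle => hx₀m
    (commute_of_mem_stab (hTp.to_le (hZA.trans hAT)) hmp Z hZn le_rfl (hLstab hmL) x₀ (hle hx₀))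
  obtain ⟨Y₀, hY₀Z, hY₀n, hY₀lt, hY₀max⟩ := exists_maximal_normal_below (N := X) (M := X ⊓ Z)
    (lt_of_le_of_ne inf_le_left fun e => hXZ (inf_eq_left.1 e))
  haveI := hY₀n
  have hchief : IsChiefFactor X Y₀ := ⟨hY₀lt, hXn, hY₀n, hY₀max⟩
  have hpel : ∀ a ∈ X, ∀ m' : G, ∃ k : ℕ, (a * m' * a⁻¹ * m'⁻¹) ^ p ^ k = 1 := fun a ha m' => by
    have : a * m' * a⁻¹ * m'⁻¹ ∈ T := hAT (hXA (by
      simpa [commutatorElement_def] using
        Subgroup.commutator_le_left X ⊤ (Subgroup.commutator_mem_commutator ha (Subgroup.mem_top m'))))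
    obtain ⟨k, hk⟩ := hTp ⟨_, this⟩
    exact ⟨k, by simpa using congrArg Subtype.val hk⟩
  have hcancel : ∀ N : Subgroup G, N.Normal → N ≤ X → N ≠ X → ∀ m' ∈ L, (orderOf m').Coprime p →
      ∀ a ∈ X, ⁅a, m'⁆ ∈ N → Commute a m' := fun N hN hle hne m' hm' hm'p a ha hmem =>
    CharP.eq_one_of_commute hm'p (hpel a ha m')
      (by simpa [commutatorElement_def] using hmin N hN hle hne m' hm' hm'p _ hmem)
  have hY₀X : ∀ y ∈ Y₀, ∀ x ∈ X, y * x = x * y := by
    have hC' : X ≤ Subgroup.centralizer (Y₀ : Set G) := by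
      by_contra hcon
      refine hx₀m (hcancel (X ⊓ Subgroup.centralizer (Y₀ : Set G)) inferInstance inf_le_left
        (fun e => hcon (inf_eq_left.1 e)) m hmL hmp x₀ hx₀ ⟨?_, ?_⟩)
      · exact Subgroup.commutator_le_left X ⊤ (Subgroup.commutator_mem_commutator hx₀ (Subgroup.mem_top m))
      refine Subgroup.mem_centralizer_iff.2 fun y hy => ?_
      have h1 : Commute y m := hmin Y₀ hY₀n hY₀lt.le hY₀lt.ne m hmL hmp y hy
      have h2 : Commute y (x₀ * m * x₀⁻¹) := hmin Y₀ hY₀n hY₀lt.le hY₀lt.ne _ (hLn.conj_mem m hmL x₀)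
        (by rwa [← MulAut.conj_apply, MulEquiv.orderOf_eq]) y hy
      rw [commutatorElement_def]
      exact h2.mul_right h1.inv_right
    exact fun y hy x hx => Subgroup.mem_centralizer_iff.1 (hC' hx) y hy
  have hXXZ : ⁅X, X⁆ ≤ Z := le_inf ((Subgroup.commutator_mono hXA hXA).trans (Subgroup.commutator_le_left A A))
    ((Subgroup.commutator_mono hXA hXA).trans hA2)
  have hder : ⁅B, ⁅X, X⁆⁆ = ⊥ := by
    refine derived_centralized (Z := Z) hp2 hLdef
      (fun a ha b hb => Subgroup.mem_centralizer_iff.1 hb.2 a (hZA ha)) (hTp.to_le (hZA.trans hAT))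
      (fun x hx z hz => Subgroup.mem_centralizer_iff.1 hz.2 x (hXA hx)) ?_ hchief hY₀X hXXZ
      ((le_inf (Subgroup.commutator_le_left X X) hXXZ).trans hY₀Z) ?_
    · intro N hN hNZ hNe hle
      haveI := hN
      obtain ⟨N₀, hN₀⟩ := exists_chief_below hNe
      refine hN₀.1.not_ge (hle.trans (Subgroup.commutator_le.2 fun a ha l hl => ?_))
      exact mem_stab.1 (hLstab hl) N N₀ hN₀ hNZ a ha
    · intro b hb u hu v hv
      have hdu : ∀ w ∈ X, ⁅b, w⁆ ∈ B := fun w hw => by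
        rw [← commutatorElement_inv]
        exact inv_mem (hAB' (Subgroup.commutator_mem_commutator (hXA hw) hb))
      refine commutatorElement_eq_one_iff_mul_comm.2 ?_
      exact Subgroup.mem_centralizer_iff.1 (hB2 (Subgroup.commutator_mem_commutator (hdu u hu) (hdu v hv))) b hb
  have hBX : ⁅B, X⁆ ≤ ZB := by
    refine hL X hXA ?_ Subgroup.le_normalizer_of_normal hder ?_
    · exact hXXZ.trans (inf_le_right.trans (Subgroup.centralizer_le hXA))
    · refine le_bot_iff.1 ((Subgroup.commutator_mono (Subgroup.commutator_mono hZBT hXA) le_rfl).trans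
        ((Subgroup.commutator_mono hA3 hXA).trans (le_of_eq ?_)))
      exact Subgroup.commutator_eq_bot_iff_le_centralizer.2 inf_le_right
  obtain ⟨b, hbB, hne⟩ : ∃ b ∈ B, ¬ ⁅X, Subgroup.zpowers b⁆ ≤ Y₀ := by
    by_contra hno
    push Not at hno
    refine hx₀m (hcancel Y₀ hY₀n hY₀lt.le hY₀lt.ne m hmL hmp x₀ hx₀ ?_)
    exact mem_centMod.1 (le_centMod_of_normalClosure (fun b hb u hu =>
      hno b hb (Subgroup.commutator_mem_commutator hu (Subgroup.mem_zpowers b))) hmL) x₀ hx₀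
  refine ⟨b, hbB, X, Y₀, hchief, hXA, ?_, hne⟩
  have hq : ⁅⁅X, B⁆, B⁆ = ⊥ := Subgroup.commutator_eq_bot_iff_le_centralizer.2
    ((Subgroup.commutator_comm X B).le.trans (hBX.trans inf_le_right))
  exact ((hmono b hbB).trans hq.le).trans bot_le

theorem exists_cubic_element (S : Sylow p G) (A : Subgroup G) [hAn : A.Normal] (hAT : A ≤ Cfsg.pCore p G)
    (hA1 : ∀ a ∈ A, a ^ p ∈ A ⊓ Subgroup.centralizer (A : Set G))
    (hA2 : ⁅A, A⁆ ≤ Subgroup.centralizer (A : Set G))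
    (hA3 : ⁅Cfsg.pCore p G, A⁆ ≤ A ⊓ Subgroup.centralizer (A : Set G))
    (hA5 : ∀ φ : MulAut ↥(Cfsg.pCore p G), (orderOf φ).Coprime p →
      (∀ a : ↥(Cfsg.pCore p G), (a : G) ∈ A → φ a = a) → φ = 1)
    (hK : ¬ (Cfsg.inducedFunctor Cfsg.kInfLower (S : Subgroup G)).Normal ∨
      ¬ (Cfsg.inducedFunctor Cfsg.kInfUpper (S : Subgroup G)).Normal) :
    ∃ g : G, g ∈ (S : Subgroup G) ∧ g ∉ Cfsg.pCore p G ∧
      iterCommutator A (Subgroup.zpowers g) 3 ≤ A ⊓ Subgroup.centralizer (A : Set G) ∧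
      ⁅⁅A ⊓ Subgroup.centralizer (A : Set G), Subgroup.zpowers g⁆, Subgroup.zpowers g⁆ = ⊥ ∧
      (Subgroup.centralizer ((Cfsg.pCore p G : Subgroup G) : Set G) ≤ Cfsg.pCore p G →
        ∃ U V : Subgroup G, IsChiefFactor U V ∧ U ≤ A ∧
          ⁅⁅U, Subgroup.zpowers g⁆, Subgroup.zpowers g⁆ ≤ V ∧ ¬ ⁅U, Subgroup.zpowers g⁆ ≤ V) :=
  exists_cubic_element_of_le (S : Subgroup G) (Cores.pCore_le_sylow S) A hAT hA1 hA2 hA3 hA5 hK

/-- A normal subgroup whose `p'`-elements centralize the minimal normal `p`-subgroup `P` centralizes `P`. -/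
theorem le_centralizer_of_minimal {P K : Subgroup G} [hPn : P.Normal] [hKn : K.Normal] (hP : IsPGroup p P)
    (hmin : IsChiefFactor P ⊥) (hK : ∀ m ∈ K, (orderOf m).Coprime p → ∀ x ∈ P, Commute x m) :
    K ≤ Subgroup.centralizer (P : Set G) := by
  have hpp : p.Prime := Fact.out
  set f : ↥K →* MulAut ↥P := (MulAut.conjNormal (H := P)).comp K.subtype with hf
  have hR : IsPGroup p f.range := by
    rintro ⟨_, x, rfl⟩
    obtain ⟨k, r, hr, hx⟩ := Nat.exists_eq_pow_mul_and_not_dvd (orderOf_pos (x : G)).ne' p hpp.ne_one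
    refine ⟨k, Subtype.ext ?_⟩
    simp only [SubmonoidClass.coe_pow, OneMemClass.coe_one, ← map_pow]
    have hcop : (orderOf ((x : G) ^ p ^ k)).Coprime p := by
      rw [orderOf_pow_of_dvd (pow_ne_zero k hpp.ne_zero) (hx ▸ dvd_mul_right _ _), hx,
        Nat.mul_div_cancel_left _ (pow_pos hpp.pos k)]
      exact ((hpp.coprime_iff_not_dvd).2 hr).symm
    refine MulEquiv.ext fun y => Subtype.ext ?_
    show ((MulAut.conjNormal ((x : G) ^ p ^ k) y : ↥P) : G) = y
    rw [MulAut.conjNormal_apply, ← (hK _ (pow_mem x.2 _) hcop _ y.2).eq, mul_inv_cancel_right]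
  have hne : Nontrivial ↥P := (Subgroup.nontrivial_iff_ne_bot P).2 hmin.1.ne'
  obtain ⟨n, hn, hcard⟩ := hP.nontrivial_iff_card.1 hne
  have hfix1 : (1 : ↥P) ∈ MulAction.fixedPoints ↥f.range ↥P := fun m => map_one (m : MulAut ↥P)
  obtain ⟨z, hz, hz1⟩ := hR.exists_fixed_point_of_prime_dvd_card_of_fixed_point ↥P
    (hcard ▸ dvd_pow_self p (by omega)) hfix1
  rcases hmin.2.2.2 (P ⊓ Subgroup.centralizer (K : Set G)) inferInstance bot_le inf_le_left with h | h
  · refine absurd (Subtype.ext ?_) hz1.symm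
    refine Subgroup.mem_bot.1 (h ▸ ⟨z.2, Subgroup.mem_centralizer_iff.2 fun k hk => ?_⟩)
    have := congrArg Subtype.val (hz ⟨f ⟨k, hk⟩, ⟨k, hk⟩, rfl⟩)
    change k * (z : G) * k⁻¹ = z at this
    exact mul_inv_eq_iff_eq_mul.1 this
  · intro k hk
    exact Subgroup.mem_centralizer_iff.2 fun x hx =>
      (Subgroup.mem_centralizer_iff.1 (h.ge hx).2 k hk).symm

/-- A quadratic element moving a chief `p`-factor `U/V` shows that `G/V` is not `p`-stable. -/
theorem not_pStable_quotient {U V : Subgroup G} (h : IsChiefFactor U V) (hUp : IsPGroup p U) {g : G}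
    (hq : ⁅⁅U, Subgroup.zpowers g⁆, Subgroup.zpowers g⁆ ≤ V) (hne : ¬ ⁅U, Subgroup.zpowers g⁆ ≤ V) :
    ∃ (N : Subgroup G) (_ : N.Normal), ¬ Cfsg.IsNormalizerPStable p (G ⧸ N) := by
  obtain ⟨hlt, hUn, hVn, hmax⟩ := h
  haveI := hVn
  refine ⟨V, hVn, fun hst => hne ?_⟩
  set q := QuotientGroup.mk' V with hqdef
  set P := U.map q with hPdef
  have hq_surj : Function.Surjective q := QuotientGroup.mk'_surjective V
  haveI hPn : P.Normal := hUn.map _ hq_surj
  have hN : Subgroup.normalizer (P : Set (G ⧸ V)) = ⊤ := Subgroup.normalizer_eq_top_iff.2 hPn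
  have hPp : IsPGroup p P := hUp.map q
  have hmin : IsChiefFactor P ⊥ := by
    refine ⟨bot_lt_iff_ne_bot.2 fun e => hlt.not_ge ?_, hPn, inferInstance, fun N hN' _ hle => ?_⟩
    · rwa [hPdef, Subgroup.map_eq_bot_iff, hqdef, QuotientGroup.ker_mk'] at e
    · have hV : V ≤ N.comap q := fun x hx => by
        rw [Subgroup.mem_comap, show q x = 1 from (QuotientGroup.eq_one_iff _).2 hx]; exact one_mem N
      have hU : N.comap q ≤ U := (Subgroup.comap_mono hle).trans (by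
        rw [hPdef, Subgroup.comap_map_eq, hqdef, QuotientGroup.ker_mk']
        exact sup_le le_rfl hlt.le)
      rcases hmax (N.comap q) inferInstance hV hU with e | e
      · left
        rw [← Subgroup.map_comap_eq_self_of_surjective hq_surj N, e, hqdef, QuotientGroup.map_mk'_self]
      · right
        rw [← Subgroup.map_comap_eq_self_of_surjective hq_surj N, e]
  have hgN : q g ∈ Subgroup.normalizer (P : Set (G ⧸ V)) := hN ▸ Subgroup.mem_top _
  have hquad : ⁅⁅P, Subgroup.zpowers (q g)⁆, Subgroup.zpowers (q g)⁆ = ⊥ := by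
    rw [← MonoidHom.map_zpowers, hPdef, ← Subgroup.map_commutator, ← Subgroup.map_commutator,
      Subgroup.map_eq_bot_iff, hqdef, QuotientGroup.ker_mk']
    exact hq
  set C := (Subgroup.centralizer (P : Set (G ⧸ V))).subgroupOf (Subgroup.normalizer (P : Set (G ⧸ V)))
    with hCdef
  set K := ((Cfsg.pCore p (↥(Subgroup.normalizer (P : Set (G ⧸ V))) ⧸ C)).comap (QuotientGroup.mk' C)).map
    (Subgroup.normalizer (P : Set (G ⧸ V))).subtype with hKdef
  haveI hKn : K.Normal := by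
    refine Subgroup.Normal.map inferInstance _ fun x => ?_
    exact ⟨⟨x, hN ▸ Subgroup.mem_top x⟩, rfl⟩
  have hgK : q g ∈ K := ⟨⟨q g, hgN⟩, hst P hPp (q g) hgN hquad, rfl⟩
  have hK : ∀ m ∈ K, (orderOf m).Coprime p → ∀ x ∈ P, Commute x m := by
    rintro _ ⟨m, hm, rfl⟩ hmp x hx
    obtain ⟨k, hk⟩ := Cores.isPGroup_pCore p _ ⟨QuotientGroup.mk' C m, hm⟩
    have hk' : (QuotientGroup.mk' C m) ^ p ^ k = 1 := by simpa using congrArg Subtype.val hk
    have h1 : QuotientGroup.mk' C m = 1 := by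
      refine orderOf_eq_one_iff.1 (Nat.eq_one_of_dvd_coprimes (hmp.pow_right k) ?_ (orderOf_dvd_of_pow_eq_one hk'))
      exact (orderOf_map_dvd _ m).trans (Subgroup.orderOf_coe m).symm.dvd
    exact Subgroup.mem_centralizer_iff.1 (Subgroup.mem_subgroupOf.1 ((QuotientGroup.eq_one_iff _).1 h1)) x hx
  have hcom := le_centralizer_of_minimal hPp hmin hK hgK
  refine commutator_zpowers_le fun u hu => ?_
  rw [← QuotientGroup.eq_one_iff, ← QuotientGroup.mk'_apply, map_commutatorElement,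
    commutatorElement_eq_one_iff_mul_comm]
  exact Subgroup.mem_centralizer_iff.1 hcom _ ⟨u, hu, rfl⟩

end Main

end Cfsg.Agent.KInfinity
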